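import Cfsg.Agent.Lib.Aschbacher.Cases.Reduce
import Cfsg.Agent.Lib.Maximal.MonoFinal
import Cfsg.Agent.Lib.Maximal.DecompFrame

/-!
# Over five elements the stabiliser of four lines is not maximal in the four-dimensional group

It normalises a group of order 64 of symplectic type, which a Hadamard matrix also normalises.
-/

set_option autoImplicit false

namespace CfsgLib.Aschbacher.Cases

open Cfsg Cfsg.Geo
open CfsgLib.Maximal (monoMat monoGL monoGL_val monoGL_mul monoMat_det tv tv_val tv_mem_specialLinear)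
open scoped Matrix MatrixGroups

universe u
variable {F : Type u} [Field F] [Fintype F]

namespace Four

/-- The four translations of a four-element vector space. -/
def tau : Fin 4 → Equiv.Perm (Fin 4) :=
  ![1, Equiv.swap 0 1 * Equiv.swap 2 3, Equiv.swap 0 2 * Equiv.swap 1 3, Equiv.swap 0 3 * Equiv.swap 1 2]

theorem tau_mul : ∀ a b, ∃ c, tau a * tau b = tau c := by decide

theorem tau_conj : ∀ (σ : Equiv.Perm (Fin 4)) (a : Fin 4), ∃ c, σ * tau a * σ⁻¹ = tau c := by decide

/-- Product one and all squares equal. -/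
def Good (d : Fin 4 → Fˣ) : Prop := ∏ i, d i = 1 ∧ ∀ i j, d i ^ 2 = d j ^ 2

/-- The monoid of the matrices `translation * diagonal`. -/
def rSet (F : Type u) [Field F] : Submonoid (GL (Fin 4) F) where
  carrier := {g | ∃ a d, Good d ∧ g = monoGL (tau a) d}
  one_mem' := ⟨0, fun _ => 1, ⟨Finset.prod_const_one, fun _ _ => rfl⟩,
    Units.ext (by rw [Units.val_one, monoGL_val]; simpa [tau] using (CfsgLib.Maximal.monoMat_one).symm)⟩
  mul_mem' := by
    rintro _ _ ⟨a, d, ⟨hd, hd2⟩, rfl⟩ ⟨b, e, ⟨he, he2⟩, rfl⟩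
    obtain ⟨c, hc⟩ := tau_mul a b
    refine ⟨c, _, ⟨?_, fun i j => ?_⟩, by rw [monoGL_mul, hc]⟩
    · rw [Finset.prod_mul_distrib, Equiv.prod_comp (tau b) d, hd, he, one_mul]
    · rw [mul_pow, mul_pow, hd2 _ (tau b j), he2 i j]

/-- The sign matrix of the characters. -/
def had (F : Type u) [Field F] : Matrix (Fin 4) (Fin 4) F :=
  !![1, 1, 1, 1; 1, -1, 1, -1; 1, 1, -1, -1; 1, -1, -1, 1]

/-- The characters as diagonals. -/
def chi (F : Type u) [Field F] : Fin 4 → Fin 4 → F :=
  ![![1, 1, 1, 1], ![1, -1, 1, -1], ![1, 1, -1, -1], ![1, -1, -1, 1]]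

theorem had_diag (a : Fin 4) : had F * monoMat 1 (chi F a) = monoMat (tau a) (fun _ => 1) * had F := by
  ext i j
  fin_cases a <;> fin_cases i <;> fin_cases j <;>
    simp [had, chi, tau, monoMat, Matrix.mul_apply, Fin.sum_univ_four, Equiv.swap_apply_def]

theorem had_perm (a : Fin 4) : had F * monoMat (tau a) (fun _ => 1) = monoMat 1 (chi F a) * had F := by
  ext i j
  fin_cases a <;> fin_cases i <;> fin_cases j <;>
    simp [had, chi, tau, monoMat, Matrix.mul_apply, Fin.sum_univ_four, Equiv.swap_apply_def]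

theorem monoMat_smul (σ : Equiv.Perm (Fin 4)) (c : F) (d : Fin 4 → F) :
    monoMat σ (fun k => c * d k) = c • monoMat σ d := by
  ext i j
  simp only [monoMat, Matrix.of_apply, Matrix.smul_apply, smul_eq_mul]
  split_ifs <;> simp

variable (h5 : Fintype.card F = 5)
include h5

theorem five_eq_zero : (5 : F) = 0 := by
  have := FiniteField.cast_card_eq_zero F
  rw [h5] at this
  exact_mod_cast this

theorem four_pow (x : Fˣ) : x ^ 4 = 1 := by
  have := FiniteField.pow_card_sub_one_eq_one (x : F) x.ne_zero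
  rw [h5] at this
  exact Units.ext (by rw [Units.val_pow_eq_pow_val, Units.val_one]; exact this)

theorem pm_ne : (-1 : F) ≠ 1 := fun h => by
  have h50 := five_eq_zero h5
  exact one_ne_zero (by linear_combination h50 + 2 * h : (1 : F) = 0)

/-- Good diagonals are multiples of characters. -/
theorem good_cases {d : Fin 4 → Fˣ} (hd : Good d) :
    ∃ a, (fun k => (d k : F)) = fun k => (d 0 : F) * chi F a k := by
  obtain ⟨hp, hs⟩ := hd
  have hcase : ∀ i, (d i : F) = d 0 ∨ (d i : F) = -d 0 := fun i => by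
    have := congrArg Units.val (hs i 0)
    simp only [Units.val_pow_eq_pow_val] at this
    exact sq_eq_sq_iff_eq_or_eq_neg.1 this
  have hp' : (d 0 : F) * d 1 * d 2 * d 3 = 1 := by
    rw [← Units.val_mul, ← Units.val_mul, ← Units.val_mul, ← Fin.prod_univ_four, hp, Units.val_one]
  have h4 : (d 0 : F) * d 0 * d 0 * d 0 = 1 := by
    have := congrArg Units.val (four_pow h5 (d 0))
    rw [Units.val_pow_eq_pow_val, Units.val_one] at this
    linear_combination this
  have hne := pm_ne h5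
  rcases hcase 1 with h1 | h1 <;> rcases hcase 2 with h2 | h2 <;> rcases hcase 3 with h3 | h3 <;>
    rw [h1, h2, h3] at hp'
  · exact ⟨0, funext fun k => by fin_cases k <;> simp [chi, h1, h2, h3]⟩
  · exact absurd (by linear_combination hp' + h4 : (-1 : F) = 1) hne
  · exact absurd (by linear_combination hp' + h4 : (-1 : F) = 1) hne
  · exact ⟨2, funext fun k => by fin_cases k <;> simp [chi, h1, h2, h3]⟩
  · exact absurd (by linear_combination hp' + h4 : (-1 : F) = 1) hne
  · exact ⟨1, funext fun k => by fin_cases k <;> simp [chi, h1, h2, h3]⟩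
  · exact ⟨3, funext fun k => by fin_cases k <;> simp [chi, h1, h2, h3]⟩
  · exact absurd (by linear_combination hp' + h4 : (-1 : F) = 1) hne

theorem had_sq : had F * had F = -1 := by
  have h50 := five_eq_zero h5
  ext i j
  fin_cases i <;> fin_cases j <;> simp [had, Matrix.mul_apply, Fin.sum_univ_four] <;> linear_combination h50

/-- The Hadamard matrix in GL. -/
def hadGL : GL (Fin 4) F where
  val := had F
  inv := -had F
  val_inv := by rw [mul_neg, had_sq h5, neg_neg]
  inv_val := by rw [neg_mul, had_sq h5, neg_neg]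

theorem hadGL_mem : hadGL h5 ∈ specialLinear (Fin 4) F := by
  rw [CfsgLib.Maximal.mem_specialLinear_iff]
  show (had F).det = 1
  have h50 := five_eq_zero h5
  simp [had, Matrix.det_succ_row_zero, Fin.sum_univ_succ, Fin.succAbove]
  linear_combination 3 * h50

theorem chi_ne (a k : Fin 4) : chi F a k ≠ 0 := by
  fin_cases a <;> fin_cases k <;> simp [chi]

theorem had_conj {x : GL (Fin 4) F} (hx : x ∈ rSet F) : hadGL h5 * x * (hadGL h5)⁻¹ ∈ rSet F := by
  obtain ⟨a, d, hd, rfl⟩ := hx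
  obtain ⟨b, hb⟩ := good_cases h5 hd
  let e : Fin 4 → Fˣ := fun k => Units.mk0 (chi F a k) (chi_ne h5 a k)
  have he : Good e := by
    refine ⟨Units.ext ?_, fun i j => Units.ext ?_⟩
    · rw [Units.coe_prod, Fin.prod_univ_four, Units.val_one]
      fin_cases a <;> simp [e, chi]
    · rw [Units.val_pow_eq_pow_val, Units.val_pow_eq_pow_val]
      fin_cases a <;> fin_cases i <;> fin_cases j <;> simp [e, chi]
  have hc : Good (fun _ : Fin 4 => d 0) := ⟨by simpa using four_pow h5 (d 0), fun _ _ => rfl⟩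
  have hprod : hadGL h5 * monoGL (tau a) d * (hadGL h5)⁻¹ = monoGL 1 e * monoGL (tau b) (fun _ => d 0) := by
    rw [mul_inv_eq_iff_eq_mul]
    refine Units.ext ?_
    rw [Units.val_mul, Units.val_mul, Units.val_mul, monoGL_val, monoGL_val, monoGL_val]
    show had F * monoMat (tau a) (fun k => (d k : F)) =
      monoMat 1 (chi F a) * monoMat (tau b) (fun _ => (d 0 : F)) * had F
    rw [show monoMat (tau a) (fun k => (d k : F)) =
        monoMat (tau a) (fun _ => (1 : F)) * monoMat 1 (fun k => (d k : F)) by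
      rw [CfsgLib.Maximal.monoMat_mul]; simp, ← mul_assoc, had_perm, mul_assoc, hb, monoMat_smul, Matrix.mul_smul,
      had_diag, mul_assoc]
    congr 1
    have h2 : monoMat (tau b) (fun _ => (d 0 : F)) = (d 0 : F) • monoMat (tau b) (fun _ => (1 : F)) := by
      rw [← monoMat_smul]; simp
    rw [h2, Matrix.smul_mul]
  rw [hprod]
  exact mul_mem ⟨0, e, he, by simp [tau]⟩ ⟨b, _, hc, rfl⟩

theorem mono_conj (σ : Equiv.Perm (Fin 4)) (l : Fin 4 → Fˣ) (hl : (∏ i, l i) ^ 2 = 1) {x : GL (Fin 4) F}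
    (hx : x ∈ rSet F) : monoGL σ l * x * (monoGL σ l)⁻¹ ∈ rSet F := by
  obtain ⟨a, d, ⟨hd, hd2⟩, rfl⟩ := hx
  have hinv : (monoGL σ l)⁻¹ = monoGL σ⁻¹ (fun k => (l (σ⁻¹ k))⁻¹) :=
    Units.ext (CfsgLib.Maximal.monoGL_inv_val σ l)
  obtain ⟨c, hc⟩ := tau_conj σ a
  rw [hinv, monoGL_mul, monoGL_mul, hc]
  refine ⟨c, _, ⟨?_, ?_⟩, rfl⟩
  · simp only [Finset.prod_mul_distrib]
    rw [Equiv.prod_comp σ⁻¹ (fun k => l (tau a k)), Equiv.prod_comp (tau a) l, Equiv.prod_comp σ⁻¹ d,
      Equiv.prod_comp σ⁻¹ (fun k => (l k)⁻¹), hd, mul_one, Finset.prod_inv_distrib, mul_inv_cancel]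
  · let u : Fin 4 → Fˣ := fun i => l i ^ 2
    have hu : ∀ i, u i * u i = 1 := fun i => by
      show l i ^ 2 * l i ^ 2 = 1
      rw [← pow_add]; exact four_pow h5 _
    have hinvu : ∀ i, (u i)⁻¹ = u i := fun i => inv_eq_of_mul_eq_one_left (hu i)
    have hp : u 3 = u 0 * u 1 * u 2 := by
      have : u 0 * u 1 * u 2 * u 3 = 1 := by
        rw [Fin.prod_univ_four, mul_pow, mul_pow, mul_pow] at hl
        exact hl
      have h := eq_inv_of_mul_eq_one_right this
      rw [h, mul_inv_rev, mul_inv_rev, hinvu, hinvu, hinvu]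
      ac_rfl
    have key : ∀ j, u (tau a j) * u j = u (tau a 0) * u 0 := by
      have gen : ∀ x y z : Fˣ, x * x = 1 → y * y = 1 → z * z = 1 → ∀ j,
          ![x, y, z, x * y * z] (tau a j) * ![x, y, z, x * y * z] j =
            ![x, y, z, x * y * z] (tau a 0) * ![x, y, z, x * y * z] 0 := by
        intro x y z hx hy hz j
        have hx' := congrArg Units.val hx
        have hy' := congrArg Units.val hy
        have hz' := congrArg Units.val hz
        simp only [Units.val_mul, Units.val_one] at hx' hy' hz'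
        refine Units.ext ?_
        rcases mul_self_eq_one_iff.1 hx' with h1 | h1 <;> rcases mul_self_eq_one_iff.1 hy' with h2 | h2 <;>
          rcases mul_self_eq_one_iff.1 hz' with h3 | h3 <;> fin_cases a <;> fin_cases j <;>
            simp [tau, Equiv.swap_apply_def, h1, h2, h3]
      have h := gen (u 0) (u 1) (u 2) (hu 0) (hu 1) (hu 2)
      have hfun : ![u 0, u 1, u 2, u 0 * u 1 * u 2] = u := funext fun i => by fin_cases i <;> simp [hp]
      rw [hfun] at h
      exact h
    intro i j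
    simp only [mul_pow, inv_pow]
    show u (tau a (σ⁻¹ i)) * d (σ⁻¹ i) ^ 2 * (u (σ⁻¹ i))⁻¹ = u (tau a (σ⁻¹ j)) * d (σ⁻¹ j) ^ 2 * (u (σ⁻¹ j))⁻¹
    rw [hinvu, hinvu, hd2 (σ⁻¹ i) (σ⁻¹ j), mul_right_comm, key, ← key (σ⁻¹ j), mul_right_comm]

end Four

open Four in
/-- The stabiliser of four lines over five elements is not a maximal subgroup. -/
theorem four_lines_five {H : Subgroup (GL (Fin 4) F)} (hH : IsMaximalIn (specialLinear (Fin 4) F) H)
    (h5 : Fintype.card F = 5) {t : ℕ} {D : Fin t → Submodule F (Fin 4 → F)} (hD : IsMDecomposition 1 D)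
    (hHD : H = decompositionStabilizer D ⊓ specialLinear (Fin 4) F) : False := by
  classical
  obtain ⟨ee, P, hP⟩ := CfsgLib.Maximal.exists_frame D hD
  have hmono : ∀ g : GL (Fin 4) F, g ∈ decompositionStabilizer D → CfsgLib.Maximal.IsMono (P⁻¹ * g * P) := by
    intro g hg k
    obtain ⟨σ, hσ⟩ := (CfsgLib.Maximal.mem_stab_iff_isBlock D ee P hP hD.finrank_eq g).1 hg
    refine ⟨ee.symm (σ (ee k).1, 0), fun l hl => by_contra fun hne => hl (ee.injective ?_)⟩
    rw [Equiv.apply_symm_apply]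
    exact Prod.ext (hσ l k hne) (Subsingleton.elim _ _)
  let N : Subgroup (GL (Fin 4) F) :=
    { carrier := {g | (∀ x ∈ rSet F, g * x * g⁻¹ ∈ rSet F) ∧ ∀ x ∈ rSet F, g⁻¹ * x * g⁻¹⁻¹ ∈ rSet F}
      one_mem' := ⟨fun x hx => by simpa using hx, fun x hx => by simpa using hx⟩
      mul_mem' := fun {g k} hg hk => ⟨fun x hx => by simpa [mul_assoc] using hg.1 _ (hk.1 x hx),
        fun x hx => by simpa [mul_assoc] using hk.2 _ (hg.2 x hx)⟩
      inv_mem' := fun {g} hg => ⟨hg.2, by simpa using hg.1⟩ }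
  let K := N.comap (MulAut.conj P⁻¹).toMonoidHom
  have hK : ∀ g : GL (Fin 4) F, g ∈ K ↔ P⁻¹ * g * P ∈ N := fun g => by
    show P⁻¹ * g * P⁻¹⁻¹ ∈ N ↔ _
    rw [inv_inv]
  have hn : (specialLinear (Fin 4) F).Normal := MonoidHom.normal_ker _
  have hle : H ≤ K := by
    have key : ∀ g : GL (Fin 4) F, g ∈ H → ∀ x ∈ rSet F, (P⁻¹ * g * P) * x * (P⁻¹ * g * P)⁻¹ ∈ rSet F := by
      intro g hg
      rw [hHD] at hg
      obtain ⟨σ, l, he⟩ := (hmono g hg.1).exists_eq
      have hdet := (CfsgLib.Maximal.mem_specialLinear_iff _).1 (hn.conj_mem' g hg.2 P)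
      rw [he, monoGL_val, monoMat_det] at hdet
      rw [he]
      refine fun x hx => mono_conj h5 σ l (Units.ext ?_) hx
      rw [Units.val_pow_eq_pow_val, Units.coe_prod, Units.val_one]
      rcases Int.units_eq_one_or (Equiv.Perm.sign σ) with hs | hs <;> rw [hs] at hdet <;>
        simp only [Units.val_neg, Units.val_one, Int.cast_one, Int.cast_neg, one_mul, neg_mul] at hdet
      · rw [hdet, one_pow]
      · linear_combination (∏ i, (l i : F) - 1) * 0 + (1 - ∏ i, (l i : F)) * hdet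
    intro g hg
    rw [hK]
    refine ⟨key g hg, ?_⟩
    rw [show (P⁻¹ * g * P)⁻¹ = P⁻¹ * g⁻¹ * P by group]
    exact key g⁻¹ (inv_mem hg)
  have hnot : ¬ specialLinear (Fin 4) F ≤ K := by
    intro h
    have h0 : (Pi.single 1 1 : Fin 4 → F) ⬝ᵥ Pi.single 0 1 = 0 := by simp
    have h1 := h (hn.conj_mem _ (tv_mem_specialLinear _ _ h0) P)
    rw [hK, show P⁻¹ * (P * tv _ _ h0 * P⁻¹) * P = tv _ _ h0 by group] at h1
    let d : Fin 4 → Fˣ := ![1, -1, 1, -1]
    have hd : monoGL 1 d ∈ rSet F := ⟨0, d, ⟨by simp [d, Fin.prod_univ_four],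
      fun i j => by fin_cases i <;> fin_cases j <;> simp [d]⟩, by simp [tau]⟩
    obtain ⟨a, e, -, he⟩ := h1.1 _ hd
    rw [mul_inv_eq_iff_eq_mul] at he
    have hv := congrArg (fun m : GL (Fin 4) F => (m : Matrix (Fin 4) (Fin 4) F)) he
    simp only [Units.val_mul, monoGL_val, tv_val] at hv
    have h00 := congrFun (congrFun hv 0) 0
    have h01 := congrFun (congrFun hv 0) 1
    have hne := pm_ne h5
    fin_cases a <;>
      simp [monoMat, tau, d, Matrix.mul_apply, Fin.sum_univ_four, Matrix.vecMulVec_apply, Equiv.swap_apply_def,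
        Matrix.one_apply] at h00 h01
    exact hne (h01.trans h00.symm)
  have heq := eq_inf_of_le hH hle hnot
  have hh : P * hadGL h5 * P⁻¹ ∈ H := by
    rw [heq]
    refine ⟨?_, hn.conj_mem _ (hadGL_mem h5) P⟩
    show P * hadGL h5 * P⁻¹ ∈ K
    rw [hK, show P⁻¹ * (P * hadGL h5 * P⁻¹) * P = hadGL h5 by group]
    refine ⟨fun x hx => had_conj h5 hx, fun x hx => ?_⟩
    have hneg : (hadGL h5)⁻¹ = -hadGL h5 := Units.ext rfl
    rw [inv_inv, hneg]
    have := had_conj h5 hx
    rw [hneg] at this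
    simpa using this
  rw [hHD] at hh
  have h2 := hmono _ hh.1
  rw [show P⁻¹ * (P * hadGL h5 * P⁻¹) * P = hadGL h5 by group] at h2
  obtain ⟨i, hi⟩ := h2 0
  obtain ⟨l, hl⟩ := exists_ne i
  have := hi l hl
  fin_cases l <;> simp [hadGL, had] at this

end CfsgLib.Aschbacher.Cases
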