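import Cfsg.Agent.Lib.Aschbacher.Main
import Cfsg.Agent.Lib.Maximal.Transvec
import Cfsg.Agent.Lib.Maximal.SubfieldFinal

/-!
# The members of the geometric classes do not contain the special linear group
-/

set_option autoImplicit false

namespace CfsgLib.Aschbacher.Cases

open Cfsg Cfsg.Geo
open CfsgLib.Maximal (tv tv_val tv_mulVec tv_mem_specialLinear exists_ann)
open scoped Matrix MatrixGroups Kronecker commutatorElement

universe u
variable {F : Type u} [Field F] [Fintype F] {n : ℕ}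

/-- The image of `x` lies in the span of two vectors. -/
def Small (x : Matrix (Fin n) (Fin n) F) : Prop :=
  ∃ a b : Fin n → F, ∀ v, x *ᵥ v ∈ Submodule.span F {a, b}

theorem span_pair_ne_top (hn : 3 ≤ n) (a b : Fin n → F) : Submodule.span F {a, b} ≠ ⊤ := fun h => by
  classical
  have h1 := finrank_span_le_card (R := F) ({a, b} : Set (Fin n → F))
  rw [h, finrank_top, Module.finrank_fin_fun] at h1
  have h2 : ({a, b} : Set (Fin n → F)).toFinset.card ≤ 2 := by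
    simp only [Set.toFinset_insert, Set.toFinset_singleton]
    exact Finset.card_le_two
  omega

/-- A functional killing two vectors. -/
theorem exists_ann2 (hn : 3 ≤ n) (a b : Fin n → F) :
    ∃ φ u : Fin n → F, φ ⬝ᵥ a = 0 ∧ φ ⬝ᵥ b = 0 ∧ φ ⬝ᵥ u = 1 := by
  obtain ⟨u, -, hu⟩ := SetLike.exists_of_lt (span_pair_ne_top hn a b).lt_top
  obtain ⟨φ, h, h1⟩ := exists_ann _ u hu
  exact ⟨φ, u, h a (Submodule.subset_span (by simp)), h b (Submodule.subset_span (by simp)), h1⟩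

theorem tv_inv_val (a φ : Fin n → F) (h : φ ⬝ᵥ a = 0) :
    (↑(tv a φ h)⁻¹ : Matrix (Fin n) (Fin n) F) = 1 + Matrix.vecMulVec (-a) φ := rfl

theorem tv_inv_mulVec (a φ : Fin n → F) (h : φ ⬝ᵥ a = 0) (v : Fin n → F) :
    (↑(tv a φ h)⁻¹ : Matrix (Fin n) (Fin n) F) *ᵥ v = v - (φ ⬝ᵥ v) • a := by
  rw [tv_inv_val, Matrix.add_mulVec, Matrix.one_mulVec, Matrix.vecMulVec_mulVec, op_smul_eq_smul, smul_neg,
    sub_eq_add_neg]

/-- Conjugation by a transvection changes a matrix by a small one. -/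
theorem small_diff (a φ : Fin n → F) (h : φ ⬝ᵥ a = 0) (x : Matrix (Fin n) (Fin n) F) :
    Small (cj (tv a φ h) x - x) := by
  refine ⟨a, x *ᵥ a, fun v => Submodule.mem_span_pair.2
    ⟨φ ⬝ᵥ (x *ᵥ (v - (φ ⬝ᵥ v) • a)), -(φ ⬝ᵥ v), ?_⟩⟩
  rw [Matrix.sub_mulVec, cj_apply, ← Matrix.mulVec_mulVec, ← Matrix.mulVec_mulVec, tv_inv_mulVec, tv_mulVec,
    Matrix.mulVec_sub, Matrix.mulVec_smul, neg_smul]
  abel

/-- A matrix commuting with every transvection is scalar. -/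
theorem scalar_of_tv_comm (hn : 3 ≤ n) {x : Matrix (Fin n) (Fin n) F}
    (hx : ∀ (a φ : Fin n → F) (h : φ ⬝ᵥ a = 0), cj (tv a φ h) x = x) : ∃ c : F, x = c • 1 := by
  classical
  have heig : ∀ a : Fin n → F, ∃ c : F, x *ᵥ a = c • a := by
    intro a
    obtain ⟨φ, v, ha, -, hv⟩ := exists_ann2 hn a a
    refine ⟨φ ⬝ᵥ (x *ᵥ v), ?_⟩
    have h1 := congrArg (· *ᵥ v) ((cj_eq_self_iff _ _).1 (hx a φ ha))
    simp only [← Matrix.mulVec_mulVec, tv_mulVec, Matrix.mulVec_add, Matrix.mulVec_smul, hv, one_smul] at h1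
    exact (add_left_cancel h1).symm
  choose c hc using heig
  let i0 : Fin n := ⟨0, by omega⟩
  have hcol : ∀ i, c (Pi.single i 1) = c (Pi.single i0 1) := by
    intro i
    rcases eq_or_ne i i0 with rfl | hi
    · rfl
    have h1 := hc (Pi.single i 1 + Pi.single i0 1)
    rw [Matrix.mulVec_add, hc, hc] at h1
    have h2 := congrFun h1 i
    have h3 := congrFun h1 i0
    simp only [Pi.add_apply, Pi.smul_apply, Pi.single_eq_same, Pi.single_eq_of_ne hi, Pi.single_eq_of_ne hi.symm,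
      smul_eq_mul, mul_one, mul_zero, add_zero, zero_add] at h2 h3
    exact h2.trans h3.symm
  refine ⟨c (Pi.single i0 1), Matrix.ext_of_mulVec_single fun i => ?_⟩
  rw [hc, hcol, Matrix.smul_mulVec, Matrix.one_mulVec]

/-! ### Subspaces and decompositions -/

theorem not_sl_le_subspace {W : Submodule F (Fin n → F)} (hW0 : W ≠ ⊥) (hW1 : W ≠ ⊤) :
    ¬ specialLinear (Fin n) F ≤ subspaceStabilizer W := fun h =>
  (CfsgLib.Maximal.subspaceStabilizer_maximal W hW0 hW1).1.ne (inf_eq_right.2 h)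

theorem not_sl_le_decomposition {t m : ℕ} {D : Fin t → Submodule F (Fin n → F)} (hD : IsMDecomposition m D) :
    ¬ specialLinear (Fin n) F ≤ decompositionStabilizer D := by
  intro h
  let i : Fin t := ⟨0, by have := hD.two_le; omega⟩
  let j : Fin t := ⟨1, by have := hD.two_le; omega⟩
  have hij : i ≠ j := by simp [i, j, Fin.ext_iff]
  have hne : ∀ k, D k ≠ ⊥ := fun k e => by
    have := hD.finrank_eq k
    rw [e, finrank_bot] at this
    exact hD.pos.ne this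
  obtain ⟨v, hv, hv0⟩ := (D i).exists_mem_ne_zero_of_ne_bot (hne i)
  obtain ⟨a, ha, ha0⟩ := (D j).exists_mem_ne_zero_of_ne_bot (hne j)
  have hdis : ∀ k l : Fin t, k ≠ l → ∀ w ∈ D k, w ∈ D l → w = 0 := fun k l hkl w h1 h2 =>
    Submodule.disjoint_def.1 ((hD.indep k).mono_right (le_iSup₂_of_le l hkl.symm le_rfl)) w h1 h2
  have hva : v ∉ Submodule.span F {a} := fun hm =>
    hv0 (hdis i j hij v hv ((Submodule.span_singleton_le_iff_mem a _).2 ha hm))
  obtain ⟨φ, hφ, hφv⟩ := exists_ann _ v hva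
  have h0 := hφ a (Submodule.mem_span_singleton_self a)
  obtain ⟨σ, hσ⟩ := h (tv_mem_specialLinear a φ h0)
  have hmem : v + a ∈ D (σ i) := by
    rw [← hσ i]
    exact ⟨v, hv, by rw [Matrix.toLin'_apply, tv_mulVec, hφv, one_smul]⟩
  by_cases h1 : σ i = i
  · rw [h1] at hmem
    exact ha0 (hdis j i hij.symm a ha ((D i).add_mem_iff_right hv |>.1 hmem))
  · have h2 : v + a ∈ ⨆ (k) (_ : k ≠ σ i), D k → v + a = 0 :=
      Submodule.disjoint_def.1 (hD.indep (σ i)) _ hmem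
    by_cases h3 : σ i = j
    · rw [h3] at hmem
      exact hv0 (hdis i j hij v hv ((D j).add_mem_iff_left ha |>.1 hmem))
    · have h4 := h2 (add_mem ((le_iSup₂_of_le i (Ne.symm h1 : i ≠ σ i) le_rfl : D i ≤ _) hv)
        ((le_iSup₂_of_le j (Ne.symm h3 : j ≠ σ i) le_rfl : D j ≤ _) ha))
      exact hv0 (hdis i j hij v hv (by rw [eq_neg_of_add_eq_zero_left h4]; exact neg_mem ha))

/-! ### Extension fields -/

theorem not_sl_le_field (hn : 3 ≤ n) {r : ℕ} {K : Subalgebra F (Matrix (Fin n) (Fin n) F)} (hr : 2 ≤ r)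
    (hK : IsFieldSubalgebra r K) : ¬ specialLinear (Fin n) F ≤ subalgebraNormalizer K := by
  intro h
  haveI : Nonempty (Fin n) := ⟨⟨0, by omega⟩⟩
  have hscal : ∀ k ∈ K, ∃ c : F, k = c • 1 := fun k hk => scalar_of_tv_comm hn fun a φ hφ => by
    have hmem : cj (tv a φ hφ) k - k ∈ K :=
      sub_mem ((h (tv_mem_specialLinear a φ hφ) k).1 hk) hk
    by_contra hne
    obtain ⟨y, -, hy⟩ := hK.inv _ hmem (sub_ne_zero.2 hne)
    obtain ⟨b, b', hb⟩ := small_diff a φ hφ k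
    refine span_pair_ne_top hn b b' (eq_top_iff.2 fun w _ => ?_)
    have := hb (y *ᵥ w)
    rwa [Matrix.mulVec_mulVec, hy, Matrix.one_mulVec] at this
  have hbot : K = ⊥ := eq_bot_iff.2 fun k hk => by
    obtain ⟨c, rfl⟩ := hscal k hk
    exact Algebra.mem_bot.2 ⟨c, by rw [Algebra.algebraMap_eq_smul_one]⟩
  have := hK.finrank_eq
  rw [hbot, Subalgebra.finrank_bot] at this
  omega

/-! ### Tensor decompositions -/

/-- No proper matrix algebra with large images is normalised by all transvections. -/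
theorem false_of_algHom (hn : 3 ≤ n) {d : ℕ} (hd : 2 ≤ d) (hdn : 2 * d < n)
    (φ : Matrix (Fin d) (Fin d) F →ₐ[F] Matrix (Fin n) (Fin n) F)
    (h : ∀ (a ψ : Fin n → F) (h : ψ ⬝ᵥ a = 0), ∀ C, cj (tv a ψ h) (φ C) ∈ φ.range) : False := by
  classical
  haveI : Nonempty (Fin d) := ⟨⟨0, by omega⟩⟩
  haveI : Nonempty (Fin n) := ⟨⟨0, by omega⟩⟩
  have hinj : Function.Injective φ := RingHom.injective φ.toRingHom
  have hsmall : ∀ C, Small (φ C) → C = 0 := by
    rintro C ⟨a, b, hab⟩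
    by_contra hC
    obtain ⟨i, j, hij⟩ : ∃ i j, C i j ≠ 0 := by
      by_contra hc
      push Not at hc
      exact hC (Matrix.ext hc)
    let f : Fin d × Bool → (Fin n → F) := fun p =>
      φ (Matrix.single p.1 i (C i j)⁻¹) *ᵥ (if p.2 then a else b)
    have htop : (⊤ : Submodule F (Fin n → F)) ≤ Submodule.span F (Set.range f) := by
      intro v _
      have h1 : v = ∑ k, φ (Matrix.single k k 1) *ᵥ v := by
        rw [← Matrix.sum_mulVec, ← map_sum]
        conv_lhs => rw [← Matrix.one_mulVec v, ← map_one φ]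
        congr 2
        exact (Matrix.sum_single_one).symm
      rw [h1]
      refine Submodule.sum_mem _ fun k _ => ?_
      have h2 : Matrix.single k k (1 : F) = Matrix.single k i (C i j)⁻¹ * C * Matrix.single j k 1 := by
        rw [Matrix.single_mul_mul_single, inv_mul_cancel₀ hij, one_mul]
      rw [h2, map_mul, map_mul, ← Matrix.mulVec_mulVec, ← Matrix.mulVec_mulVec]
      obtain ⟨s, s', hs⟩ := Submodule.mem_span_pair.1 (hab (φ (Matrix.single j k 1) *ᵥ v))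
      rw [← hs, Matrix.mulVec_add, Matrix.mulVec_smul, Matrix.mulVec_smul]
      exact add_mem (Submodule.smul_mem _ _ (Submodule.subset_span ⟨(k, true), by simp [f]⟩))
        (Submodule.smul_mem _ _ (Submodule.subset_span ⟨(k, false), by simp [f]⟩))
    have h3 := finrank_range_le_card (R := F) f
    rw [Set.finrank, eq_top_iff.2 htop, finrank_top, Module.finrank_fin_fun] at h3
    simp only [Fintype.card_prod, Fintype.card_fin, Fintype.card_bool] at h3
    omega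
  have hscal : ∀ C, ∃ c : F, φ C = c • 1 := fun C => scalar_of_tv_comm hn fun a ψ hψ => by
    obtain ⟨C', hC'⟩ := h a ψ hψ C
    change φ C' = _ at hC'
    have h1 : Small (φ (C' - C)) := by rw [map_sub, hC']; exact small_diff a ψ hψ _
    rw [← hC', sub_eq_zero.1 (hsmall _ h1)]
  let z : Fin d := ⟨0, by omega⟩
  let o : Fin d := ⟨1, by omega⟩
  obtain ⟨c, hc⟩ := hscal (Matrix.single z z 1)
  have hone : Matrix.single z z (1 : F) = c • 1 := hinj (by rw [hc, map_smul, map_one])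
  have h0 := congrFun (congrFun hone z) z
  have h1 := congrFun (congrFun hone o) o
  simp [z, o] at h0 h1
  rw [← h1] at h0
  exact one_ne_zero h0

theorem cj_eq_of_mul_eq {ι : Type} [Fintype ι] [DecidableEq ι] {g : GL ι F} {x y : Matrix ι ι F}
    (h : (g : Matrix ι ι F) * x = y * g) : cj g x = y := by
  rw [cj_apply, h, mul_assoc, Units.mul_inv, mul_one]

/-- `a ↦ a ⊗ 1`. -/
def kronOne (n₁ n₂ : ℕ) : Matrix (Fin n₁) (Fin n₁) F →ₐ[F] Matrix (Fin n₁ × Fin n₂) (Fin n₁ × Fin n₂) F :=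
  AlgHom.ofLinearMap
    { toFun := fun a => a ⊗ₖ (1 : Matrix (Fin n₂) (Fin n₂) F)
      map_add' := fun a b => Matrix.add_kronecker a b _
      map_smul' := fun c a => Matrix.smul_kronecker c a _ }
    Matrix.one_kronecker_one (fun a b => by simp [← Matrix.mul_kronecker_mul])

/-- `a ↦ P (a ⊗ 1) P⁻¹`. -/
def tensorHom {n₁ n₂ : ℕ} (e : Fin n ≃ Fin n₁ × Fin n₂) (P : GL (Fin n) F) :
    Matrix (Fin n₁) (Fin n₁) F →ₐ[F] Matrix (Fin n) (Fin n) F :=
  ((cj P).toAlgHom.comp (Matrix.reindexAlgEquiv F F e.symm).toAlgHom).comp (kronOne n₁ n₂)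

theorem tensorHom_conj {n₁ n₂ : ℕ} {e : Fin n ≃ Fin n₁ × Fin n₂} {P g : GL (Fin n) F}
    (hg : g ∈ tensorProductSubgroup n₁ n₂ e P) :
    ∃ a : GL (Fin n₁) F, ∀ C, cj g (tensorHom e P C) = tensorHom e P (cj a C) := by
  obtain ⟨_, ⟨k, ⟨a, b, hk⟩, rfl⟩, rfl⟩ := hg
  refine ⟨a, fun C => ?_⟩
  show cj (P * glReindex e.symm k * P⁻¹) (cj P (Matrix.reindexAlgEquiv F F e.symm (kronOne n₁ n₂ C))) = _
  rw [cj_cj, inv_mul_cancel_right, ← cj_cj]
  show _ = cj P (Matrix.reindexAlgEquiv F F e.symm (kronOne n₁ n₂ (cj a C)))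
  congr 1
  have hkc : cj k (kronOne n₁ n₂ C) = kronOne n₁ n₂ (cj a C) := by
    rw [cj_eq_of_mul_eq]
    · show (k : Matrix (Fin n₁ × Fin n₂) (Fin n₁ × Fin n₂) F) * (C ⊗ₖ 1) =
        (cj a C ⊗ₖ 1) * (k : Matrix (Fin n₁ × Fin n₂) (Fin n₁ × Fin n₂) F)
      rw [hk, ← Matrix.mul_kronecker_mul, ← Matrix.mul_kronecker_mul, mul_one, one_mul]
      simp [cj_apply, mul_assoc]
  rw [← hkc]
  simp [cj_apply, glReindex]

theorem not_sl_le_tensor (hn : 3 ≤ n) {n₁ n₂ : ℕ} {e : Fin n ≃ Fin n₁ × Fin n₂} {P : GL (Fin n) F}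
    (h1 : 2 ≤ n₁) (h2 : n₁ < n₂) : ¬ specialLinear (Fin n) F ≤ tensorProductSubgroup n₁ n₂ e P := by
  intro h
  have hc : n = n₁ * n₂ := by simpa using Fintype.card_congr e
  refine false_of_algHom hn h1 (by rw [hc]; nlinarith) (tensorHom e P) fun a ψ hψ C => ?_
  obtain ⟨g, hg⟩ := tensorHom_conj (h (tv_mem_specialLinear a ψ hψ))
  exact ⟨_, (hg C).symm⟩

/-- The `i`-th tensor slot, as an algebra map. -/
def slotHom {d s : ℕ} (i : Fin s) :
    Matrix (Fin d) (Fin d) F →ₐ[F] Matrix (Fin s → Fin d) (Fin s → Fin d) F :=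
  AlgHom.ofLinearMap
    { toFun := slot i
      map_add' := fun a b => by
        ext x y
        simp only [slot, Matrix.of_apply, Matrix.add_apply]
        split_ifs <;> simp
      map_smul' := fun c a => by
        ext x y
        simp only [slot, Matrix.of_apply, Matrix.smul_apply, RingHom.id_apply]
        split_ifs <;> simp }
    (by
      show slot i 1 = 1
      rw [slot_eq_pure, Function.update_eq_self_iff.2 rfl, pure'_one])
    (fun a b => by
      show slot i (a * b) = slot i a * slot i b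
      rw [slot_eq_pure, slot_eq_pure, slot_eq_pure, pure'_mul]
      congr 1
      funext j
      rcases eq_or_ne j i with rfl | hj <;> simp_all)

theorem tv_commutator {a b φ ψ : Fin n → F} (hφa : φ ⬝ᵥ a = 0) (hψa : ψ ⬝ᵥ a = 0) (hφb : φ ⬝ᵥ b = 0)
    (hψb : ψ ⬝ᵥ b = 1) : ⁅tv a ψ hψa, tv b φ hφb⁆ = tv a φ hφa := by
  refine Units.ext (Matrix.ext_of_mulVec_single fun i => ?_)
  rw [commutatorElement_def, Units.val_mul, Units.val_mul, Units.val_mul, ← Matrix.mulVec_mulVec,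
    ← Matrix.mulVec_mulVec, ← Matrix.mulVec_mulVec]
  simp only [tv_mulVec, tv_inv_mulVec, dotProduct_add, dotProduct_sub, dotProduct_smul, hφa, hψa, hφb, hψb,
    smul_eq_mul]
  module

theorem not_sl_le_wreath {m : ℕ} (hm : 3 ≤ m) {e : Fin n ≃ (Fin 2 → Fin m)} {P : GL (Fin n) F} :
    ¬ specialLinear (Fin n) F ≤ tensorWreathSubgroup m 2 e P := by
  intro h
  classical
  have hc : n = m ^ 2 := by simpa using Fintype.card_congr e
  have hn : 3 ≤ n := by rw [hc]; nlinarith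
  let Φ : Fin 2 → (Matrix (Fin m) (Fin m) F →ₐ[F] Matrix (Fin n) (Fin n) F) := fun i =>
    ((cj P).toAlgHom.comp (Matrix.reindexAlgEquiv F F e.symm).toAlgHom).comp (slotHom i)
  let Perms : Subgroup (GL (Fin n) F) :=
    { carrier := {g | ∃ π : Equiv.Perm (Fin 2), (∀ i C, cj g (Φ i C) ∈ (Φ (π i)).range) ∧
        (∀ i C, cj g⁻¹ (Φ i C) ∈ (Φ (π⁻¹ i)).range)}
      one_mem' := ⟨1, fun i C => ⟨C, by simp [cj_one]⟩, fun i C => ⟨C, by simp [cj_one]⟩⟩
      mul_mem' := by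
        rintro g g' ⟨π, h1, h2⟩ ⟨π', h1', h2'⟩
        refine ⟨π * π', fun i C => ?_, fun i C => ?_⟩
        · obtain ⟨C', hC'⟩ := h1' i C
          rw [← cj_cj, ← hC']
          exact h1 _ C'
        · obtain ⟨C', hC'⟩ := h2 i C
          rw [mul_inv_rev, mul_inv_rev, ← cj_cj, ← hC']
          exact h2' _ C'
      inv_mem' := by
        rintro g ⟨π, h1, h2⟩
        exact ⟨π⁻¹, h2, by rw [inv_inv, inv_inv]; exact h1⟩ }
  have hle : tensorWreathSubgroup m 2 e P ≤ Perms := by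
    let f : GL (Fin 2 → Fin m) F →* GL (Fin n) F :=
      (MulAut.conj P).toMonoidHom.comp (glReindex e.symm).toMonoidHom
    have hf : ∀ k i C, cj (f k) (Φ i C) = cj P (Matrix.reindexAlgEquiv F F e.symm (cj k (slot i C))) := by
      intro k i C
      show cj (P * glReindex e.symm k * P⁻¹) (cj P (Matrix.reindexAlgEquiv F F e.symm (slot i C))) = _
      rw [cj_cj, inv_mul_cancel_right, ← cj_cj]
      simp [cj_apply, glReindex]
    rw [tensorWreathSubgroup, Subgroup.map_map, Subgroup.map_le_iff_le_comap, tensorWreathStandard,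
      Subgroup.closure_le]
    rintro k (⟨gs, hgs⟩ | ⟨σ, hσ⟩)
    · have hk : k = pureGL gs := Units.ext (Matrix.ext hgs)
      have hp : ∀ (gs' : Fin 2 → GL (Fin m) F) i C, cj (pureGL gs') (slot i C) = slot i (cj (gs' i) C) :=
        fun gs' i C => pure'_conj_slot gs' i C
      have hki : k⁻¹ = pureGL fun i => (gs i)⁻¹ := by
        subst hk; exact Units.ext rfl
      refine ⟨1, fun i C => ⟨cj (gs i) C, ?_⟩, fun i C => ⟨cj (gs i)⁻¹ C, ?_⟩⟩
      · show Φ i (cj (gs i) C) = cj (f k) (Φ i C)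
        rw [hf, hk, hp]; rfl
      · show Φ i (cj (gs i)⁻¹ C) = cj (f k)⁻¹ (Φ i C)
        rw [← map_inv, hf, hki, hp]; rfl
    · have hk : k = permGL σ := Units.ext (Matrix.ext hσ)
      have hki : k⁻¹ = permGL σ⁻¹ := by
        subst hk; exact Units.ext rfl
      refine ⟨σ, fun i C => ⟨C, ?_⟩, fun i C => ⟨C, ?_⟩⟩
      · show Φ (σ i) C = cj (f k) (Φ i C)
        rw [hf, hk, permGL_conj_slot]; rfl
      · show Φ (σ⁻¹ i) C = cj (f k)⁻¹ (Φ i C)
        rw [← map_inv, hf, hki, permGL_conj_slot]; rfl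
  refine false_of_algHom (d := m) hn (by omega) (by rw [hc]; nlinarith) (Φ 0) fun a φ hφ C => ?_
  -- every transvection is a commutator
  by_cases hφ0 : φ = 0
  · refine ⟨C, ?_⟩
    subst hφ0
    rw [show tv a 0 hφ = 1 from Units.ext (by simp [tv_val]), cj_one]
    rfl
  by_cases ha : a = 0
  · refine ⟨C, ?_⟩
    subst ha
    rw [show tv 0 φ hφ = 1 from Units.ext (by simp [tv_val]), cj_one]
    rfl
  have hker : ¬ LinearMap.ker (dotProductEquiv F (Fin n) φ) ≤ Submodule.span F {a} := by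
    intro hle'
    have h1 := Submodule.finrank_mono hle'
    have h2 := LinearMap.finrank_range_add_finrank_ker (dotProductEquiv F (Fin n) φ)
    have h3 := Submodule.finrank_le (LinearMap.range (dotProductEquiv F (Fin n) φ))
    rw [Module.finrank_self] at h3
    rw [finrank_span_singleton ha] at h1
    rw [Module.finrank_fin_fun] at h2
    omega
  obtain ⟨b, hb, hba⟩ := SetLike.not_le_iff_exists.1 hker
  obtain ⟨ψ, hψ, hψb⟩ := exists_ann _ b hba
  rw [← tv_commutator hφ (hψ a (Submodule.mem_span_singleton_self a)) hb hψb]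
  obtain ⟨π, hπ, hπ'⟩ := hle (h (tv_mem_specialLinear a ψ (hψ a (Submodule.mem_span_singleton_self a))))
  obtain ⟨ρ, hρ, hρ'⟩ := hle (h (tv_mem_specialLinear b φ hb))
  obtain ⟨C₁, hC₁⟩ := hρ' 0 C
  obtain ⟨C₂, hC₂⟩ := hπ' _ C₁
  obtain ⟨C₃, hC₃⟩ := hρ _ C₂
  have hcomm : ∀ π ρ : Equiv.Perm (Fin 2), π (ρ (π⁻¹ (ρ⁻¹ 0))) = 0 := by decide
  obtain ⟨C₄, hC₄⟩ : cj (tv a ψ (hψ a (Submodule.mem_span_singleton_self a))) (Φ (ρ (π⁻¹ (ρ⁻¹ 0))) C₃) ∈
      (Φ 0).range := by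
    have := hπ (ρ (π⁻¹ (ρ⁻¹ 0))) C₃
    rwa [hcomm π ρ] at this
  refine ⟨C₄, ?_⟩
  change Φ _ C₁ = _ at hC₁
  change Φ _ C₂ = _ at hC₂
  change Φ _ C₃ = _ at hC₃
  change Φ 0 C₄ = _ at hC₄
  show Φ 0 C₄ = _
  rw [hC₄, hC₃, hC₂, hC₁, cj_cj, cj_cj, cj_cj, commutatorElement_def]

/-! ### Subfields -/

theorem not_sl_le_subfield (hn : 3 ≤ n) {F₀ : Subfield F} {r : ℕ} (hr : r.Prime)
    (hcard : Fintype.card F = Nat.card F₀ ^ r) (P : GL (Fin n) F) :
    ¬ specialLinear (Fin n) F ≤ subfieldSubgroup F₀ P := by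
  intro h
  obtain ⟨μ, hμ⟩ := CfsgLib.Maximal.exists_notMem_subfield hr hcard
  have hij : (⟨0, by omega⟩ : Fin n) ≠ ⟨1, by omega⟩ := by simp [Fin.ext_iff]
  generalize (⟨0, by omega⟩ : Fin n) = i at hij
  generalize (⟨1, by omega⟩ : Fin n) = j at hij
  have hd : (Pi.single j 1 : Fin n → F) ⬝ᵥ Pi.single i μ = 0 := by simp [hij.symm]
  have hn' : (specialLinear (Fin n) F).Normal := MonoidHom.normal_ker _
  obtain ⟨c, hc, hrat⟩ := (CfsgLib.Maximal.mem_subfieldSubgroup_iff P _).1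
    (h (hn'.conj_mem _ (tv_mem_specialLinear _ _ hd) P))
  rw [show P⁻¹ * (P * tv _ _ hd * P⁻¹) * P = tv _ _ hd by group, tv_val] at hrat
  have hii := hrat i i
  have hijm := hrat i j
  simp [Matrix.vecMulVec_apply, hij, hij.symm] at hii hijm
  exact hμ (by
    have h2 := F₀.mul_mem (F₀.inv_mem hii) hijm
    rwa [← mul_assoc, inv_mul_cancel₀ hc, one_mul] at h2)

/-! ### Symplectic type -/

theorem not_sl_le_symplecticType (hn : 3 ≤ n) {r : ℕ} {R : Subgroup (GL (Fin n) F)}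
    (hR : IsLinearSymplecticTypeData r R) : ¬ specialLinear (Fin n) F ≤ subgroupNormalizer R := by
  intro h
  classical
  haveI : Nonempty (Fin n) := ⟨⟨0, by omega⟩⟩
  obtain ⟨p, e, hrp, ⟨hp, hchar, -⟩, -⟩ := hR.field
  haveI : Fact p.Prime := ⟨hp⟩
  haveI := hchar
  -- a non-scalar element
  obtain ⟨ρ, hρ, a, ha⟩ : ∃ ρ ∈ R, ∃ a, (ρ : Matrix (Fin n) (Fin n) F) *ᵥ a ∉ Submodule.span F {a} := by
    by_contra hcon
    push Not at hcon
    obtain ⟨W, hW0, hW1⟩ : ∃ W : Submodule F (Fin n → F), W ≠ ⊥ ∧ W ≠ ⊤ :=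
      ⟨Submodule.span F {Pi.single ⟨0, by omega⟩ 1, Pi.single ⟨0, by omega⟩ 1}, by simp,
        span_pair_ne_top hn _ _⟩
    refine (hR.absIrred.1 W ?_).elim hW0 hW1
    rintro _ ⟨g, hg, rfl⟩ _ ⟨v, hv, rfl⟩
    obtain ⟨c, hc⟩ := Submodule.mem_span_singleton.1 (hcon g hg v)
    rw [Matrix.toLin'_apply, ← hc]
    exact W.smul_mem c hv
  obtain ⟨φ, u, h1, h2, h3⟩ := exists_ann2 hn a ((ρ : Matrix (Fin n) (Fin n) F) *ᵥ a)
  set b := (ρ : Matrix (Fin n) (Fin n) F) *ᵥ a with hb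
  obtain ⟨h', hconj⟩ := CfsgLib.Maximal.conj_tv ρ (-a) φ (by simp [h1])
  rw [Matrix.mulVec_neg, ← hb] at h'
  set ψ := φ ᵥ* ((ρ⁻¹ : GL (Fin n) F) : Matrix (Fin n) (Fin n) F)
  set t := tv a φ h1 with ht
  have hx : t * ρ * t⁻¹ * ρ⁻¹ ∈ R :=
    mul_mem ((Subgroup.mem_normalizer_iff.1 (h (tv_mem_specialLinear a φ h1)) ρ).1 hρ) (inv_mem hρ)
  have hx1 : ((t * ρ * t⁻¹ * ρ⁻¹ : GL (Fin n) F) : Matrix (Fin n) (Fin n) F) =
      1 + (Matrix.vecMulVec a φ - Matrix.vecMulVec b ψ) := by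
    rw [show t * ρ * t⁻¹ * ρ⁻¹ = t * (ρ * t⁻¹ * ρ⁻¹) by group,
      show t⁻¹ = tv (-a) φ (by simp [h1]) from Units.ext rfl, hconj, Units.val_mul, tv_val, tv_val,
      Matrix.mulVec_neg, ← hb]
    simp only [mul_add, add_mul, one_mul, mul_one, Matrix.vecMulVec_mul_vecMulVec, h2, dotProduct_neg, neg_zero,
      zero_smul, Matrix.zero_vecMulVec, Matrix.vecMulVec_zero, add_zero, Matrix.neg_vecMulVec, mul_neg,
      sub_eq_add_neg]
    abel
  have hψb : ψ ⬝ᵥ b = 0 := by simpa [dotProduct_neg] using h'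
  set N := Matrix.vecMulVec a φ - Matrix.vecMulVec b ψ with hN
  have hN3 : N * N * N = 0 := by
    simp only [hN, sub_mul, mul_sub, Matrix.vecMulVec_mul_vecMulVec, Matrix.smul_vecMulVec, Matrix.mul_smul,
      Matrix.smul_mul, Matrix.vecMulVec_smul, smul_smul, h1, h2, hψb, mul_zero, zero_mul, zero_smul,
      Matrix.vecMulVec_zero, sub_zero, zero_sub, neg_mul, mul_neg, neg_zero, sub_self]
  have hpow : (t * ρ * t⁻¹ * ρ⁻¹) ^ p ^ 2 = 1 := Units.ext (by
    rw [Units.val_pow_eq_pow_val, hx1, add_pow_char_pow_of_commute p 2 (Commute.one_left N), one_pow, Units.val_one]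
    have h4 : 3 ≤ p ^ 2 := by have := hp.two_le; nlinarith
    rw [← Nat.add_sub_cancel' h4, pow_add, show N ^ 3 = 0 by rw [pow_succ, pow_two, hN3], zero_mul, add_zero])
  obtain ⟨k, hk⟩ := hR.symplecticType.pGroup ⟨_, hx⟩
  have hone : t * ρ * t⁻¹ * ρ⁻¹ = 1 := by
    have h5 : (t * ρ * t⁻¹ * ρ⁻¹) ^ r ^ k = 1 := congrArg Subtype.val hk
    have h6 := Nat.dvd_gcd (orderOf_dvd_of_pow_eq_one h5) (orderOf_dvd_of_pow_eq_one hpow)
    rw [((Nat.coprime_primes hR.symplecticType.prime hp).2 hrp).pow k 2, Nat.dvd_one] at h6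
    exact orderOf_eq_one_iff.1 h6
  have hN0 : N *ᵥ u = 0 := by
    rw [hone, Units.val_one] at hx1
    rw [left_eq_add.1 hx1, Matrix.zero_mulVec]
  rw [hN, Matrix.sub_mulVec, Matrix.vecMulVec_mulVec, Matrix.vecMulVec_mulVec, op_smul_eq_smul, op_smul_eq_smul,
    h3, one_smul, sub_eq_zero] at hN0
  refine ha (Submodule.mem_span_singleton.2 ⟨(ψ ⬝ᵥ u)⁻¹, ?_⟩)
  rcases eq_or_ne (ψ ⬝ᵥ u) 0 with h0 | h0
  · rw [h0, zero_smul] at hN0
    rw [hb, hN0, Matrix.mulVec_zero, smul_zero]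
  · rw [hN0, smul_smul, inv_mul_cancel₀ h0, one_smul]

/-! ### Forms -/

theorem tv_pow_char (p : ℕ) [Fact p.Prime] [CharP F p] [Nonempty (Fin n)] (a φ : Fin n → F) (h : φ ⬝ᵥ a = 0) :
    tv a φ h ^ p = 1 := Units.ext (by
  have h0 : Matrix.vecMulVec a φ * Matrix.vecMulVec a φ = 0 := by simp [Matrix.vecMulVec_mul_vecMulVec, h]
  have h2 := (Fact.out : p.Prime).two_le
  rw [Units.val_pow_eq_pow_val, tv_val, ← pow_one p,
    add_pow_char_pow_of_commute p 1 (Commute.one_left (Matrix.vecMulVec a φ)), one_pow, pow_one, Units.val_one,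
    ← Nat.add_sub_cancel' h2, pow_add, pow_two, h0, zero_mul, add_zero])

theorem not_sl_le_similarity (hn : 3 ≤ n) {f : (Fin n → F) → (Fin n → F) → F}
    (hadd : ∀ v x y, f v (x + y) = f v x + f v y) (hnd : IsNondegenerateForm f) :
    ¬ specialLinear (Fin n) F ≤ similarityGroup f := by
  intro h
  haveI : Nonempty (Fin n) := ⟨⟨0, by omega⟩⟩
  obtain ⟨p, hp⟩ := CharP.exists F
  haveI : Fact p.Prime := ⟨CharP.char_is_prime F p⟩
  have hiso : ∀ a φ (hd : φ ⬝ᵥ a = 0), ∀ u v, f (((tv a φ hd : GL (Fin n) F) : Matrix (Fin n) (Fin n) F) *ᵥ u)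
      (((tv a φ hd : GL (Fin n) F) : Matrix (Fin n) (Fin n) F) *ᵥ v) = f u v := by
    intro a φ hd u v
    obtain ⟨c, hc⟩ := h (tv_mem_specialLinear a φ hd)
    have hk : ∀ k : ℕ, f (((tv a φ hd ^ k : GL (Fin n) F) : Matrix (Fin n) (Fin n) F) *ᵥ u)
        (((tv a φ hd ^ k : GL (Fin n) F) : Matrix (Fin n) (Fin n) F) *ᵥ v) = (c : F) ^ k * f u v := by
      intro k
      induction k with
      | zero => simp
      | succ k ih => rw [pow_succ', Units.val_mul, ← Matrix.mulVec_mulVec, ← Matrix.mulVec_mulVec, hc, ih, pow_succ',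
          mul_assoc]
    rw [hc]
    rcases eq_or_ne (f u v) 0 with h0 | h0
    · rw [h0, mul_zero]
    have h1 := hk p
    rw [tv_pow_char p, Units.val_one, Matrix.one_mulVec, Matrix.one_mulVec] at h1
    have h2 : (c : F) ^ p = 1 := mul_right_cancel₀ h0 (by rw [one_mul]; exact h1.symm)
    have h3 : (c : F) = 1 := frobenius_inj F p (by rw [frobenius_def, frobenius_def, h2, one_pow])
    rw [h3, one_mul]
  let a : Fin n → F := Pi.single ⟨0, by omega⟩ 1
  obtain ⟨⟨w, hw⟩, -⟩ := hnd a (by simp [a])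
  obtain ⟨φ, v, h1, h2, h3⟩ := exists_ann2 hn a w
  have h4 := hiso a φ h1 w v
  rw [tv_mulVec, tv_mulVec, h2, h3, zero_smul, add_zero, one_smul, hadd] at h4
  exact hw (by linear_combination h4)

theorem quadSim_le (Q : (Fin n → F) → F) :
    quadSimilarityGroup Q ≤ similarityGroup (QuadraticMap.polar Q) := by
  rintro g ⟨c, hc⟩
  refine ⟨c, fun u v => ?_⟩
  simp only [QuadraticMap.polar, ← Matrix.mulVec_add, hc]
  ring

end CfsgLib.Aschbacher.Cases
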