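import Cfsg.Agent.Lib.Aschbacher.Cases.NotFull
import Cfsg.Agent.Lib.Maximal.SmallMonomial

/-!
# Maximal subgroups of the special linear group lie in exactly one member of the geometric classes
-/

set_option autoImplicit false

namespace CfsgLib.Aschbacher.Cases

open Cfsg Cfsg.Geo
open scoped Matrix MatrixGroups

universe u
variable {F : Type u} [Field F] [Fintype F] {n : ℕ}

theorem eq_inf_of_le {H M : Subgroup (GL (Fin n) F)} (hH : IsMaximalIn (specialLinear (Fin n) F) H)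
    (hle : H ≤ M) (hM : ¬ specialLinear (Fin n) F ≤ M) : H = M ⊓ specialLinear (Fin n) F :=
  ((hH.2 _ (le_inf hle hH.1.le) inf_le_right).resolve_right fun e => hM (inf_eq_right.1 e)).symm

theorem dvd_of_field {r : ℕ} {K : Subalgebra F (Matrix (Fin n) (Fin n) F)} (hn : 0 < n)
    (hK : IsFieldSubalgebra r K) : r ∣ n := by
  haveI : Nonempty (Fin n) := ⟨⟨0, hn⟩⟩
  have hF : IsField K :=
    { exists_pair_ne := ⟨1, 0, fun h => one_ne_zero (congrArg Subtype.val h)⟩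
      mul_comm := fun x y => Subtype.ext (hK.comm x x.2 y y.2)
      mul_inv_cancel := fun {a} ha => by
        obtain ⟨y, hy, e⟩ := hK.inv a a.2 (fun e => ha (Subtype.ext e))
        exact ⟨⟨y, hy⟩, Subtype.ext e⟩ }
  letI : Field K := hF.toField
  letI : Module K (Fin n → F) :=
    { smul := fun k v => (k : Matrix (Fin n) (Fin n) F) *ᵥ v
      one_smul := fun v => Matrix.one_mulVec v
      mul_smul := fun a b v => (Matrix.mulVec_mulVec v _ _).symm
      smul_zero := fun a => Matrix.mulVec_zero _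
      smul_add := fun a v w => Matrix.mulVec_add _ v w
      add_smul := fun a b v => Matrix.add_mulVec _ _ v
      zero_smul := fun v => Matrix.zero_mulVec v }
  haveI : IsScalarTower F K (Fin n → F) := ⟨fun c k v => Matrix.smul_mulVec c _ v⟩
  have h := Module.finrank_mul_finrank F K (Fin n → F)
  rw [hK.finrank_eq, Module.finrank_fin_fun] at h
  exact Dvd.intro _ h

theorem mul_eq_of_decomposition {t m : ℕ} {D : Fin t → Submodule F (Fin n → F)} (hD : IsMDecomposition m D) :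
    t * m = n := by
  obtain ⟨e, -⟩ := CfsgLib.Maximal.exists_coords D hD
  have h := e.finrank_eq
  rw [Module.finrank_fin_fun, Module.finrank_pi_fintype] at h
  simpa using h.symm

/-- The numerical shape of the sixth class. -/
def Six (n r : ℕ) (F : Type u) [Field F] [Fintype F] : Prop :=
  ∃ p e : ℕ, p.Prime ∧ CharP F p ∧ Fintype.card F = p ^ e ∧
    ((Odd r ∧ r.Prime ∧ Odd e ∧ r ∣ p ^ e - 1 ∧ (∀ d, 0 < d → d < e → ¬ r ∣ p ^ d - 1) ∧
        ∃ m, 1 ≤ m ∧ n = r ^ m) ∨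
     (r = 2 ∧ e = 1 ∧ p % 4 = 1 ∧ 4 ≤ n ∧ ∃ m, n = 2 ^ m))

theorem six_of_data (hn : 3 ≤ n) {r : ℕ} {R : Subgroup (GL (Fin n) F)} (hR : IsLinearSymplecticTypeData r R)
    (hcard : Nat.card R = Nat.card (Subgroup.center R) * n ^ 2) : Six n r F := by
  obtain ⟨p, e, -, ⟨hp, hchar, hq, hdvd, hmin⟩, h⟩ := hR.field
  refine ⟨p, e, hp, hchar, hq, ?_⟩
  rcases h with ⟨hr, he, hz, m, hm, hc⟩ | ⟨rfl, rfl, hz, hn4, m, hc⟩ | ⟨-, -, h2, -⟩
  · refine Or.inl ⟨hr, hR.symplecticType.prime, he, by rwa [hz] at hdvd, by rwa [hz] at hmin, m, hm, ?_⟩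
    rw [hc, hz, pow_add, pow_one, mul_comm 2 m, pow_mul] at hcard
    exact (Nat.pow_left_injective two_ne_zero (Nat.eq_of_mul_eq_mul_left hR.symplecticType.prime.pos hcard)).symm
  · rw [hz, pow_one] at hdvd
    rw [Fintype.card_fin] at hn4
    refine Or.inr ⟨rfl, rfl, ?_, hn4, m, ?_⟩
    · have := hp.two_le
      omega
    · rw [hc, hz, pow_add, mul_comm 2 m, pow_mul, show (4 : ℕ) = 2 ^ 2 from rfl] at hcard
      exact (Nat.pow_left_injective two_ne_zero (Nat.eq_of_mul_eq_mul_left (by norm_num) hcard)).symm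
  · rw [Fintype.card_fin] at h2
    omega

/-- The shapes of the maximal subgroups, with the numerical conditions that follow from the classes. -/
def Shape (H : Subgroup (GL (Fin n) F)) : Prop :=
  let SL := specialLinear (Fin n) F
  (∃ W : Submodule F (Fin n → F), W ≠ ⊥ ∧ W ≠ ⊤ ∧ H = subspaceStabilizer W ⊓ SL) ∨
  (∃ (t m : ℕ) (D : Fin t → Submodule F (Fin n → F)), t * m = n ∧ IsMDecomposition m D ∧
      H = decompositionStabilizer D ⊓ SL) ∨
  (∃ (r : ℕ) (K : Subalgebra F (Matrix (Fin n) (Fin n) F)), r.Prime ∧ r ∣ n ∧ IsFieldSubalgebra r K ∧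
      H = subalgebraNormalizer K ⊓ SL) ∨
  (∃ (n₁ n₂ : ℕ) (e : Fin n ≃ Fin n₁ × Fin n₂) (P : GL (Fin n) F), 2 ≤ n₁ ∧ n₁ < n₂ ∧ n₁ * n₂ = n ∧
      H = tensorProductSubgroup n₁ n₂ e P ⊓ SL) ∨
  (∃ (F₀ : Subfield F) (r : ℕ) (P : GL (Fin n) F), r.Prime ∧ Fintype.card F = Nat.card F₀ ^ r ∧
      H = subfieldSubgroup F₀ P ⊓ SL) ∨
  (∃ (r : ℕ) (R : Subgroup (GL (Fin n) F)), IsLinearSymplecticTypeData r R ∧ Six n r F ∧
      H = subgroupNormalizer R ⊓ SL) ∨
  (∃ (m : ℕ) (e : Fin n ≃ (Fin 2 → Fin m)) (P : GL (Fin n) F), 3 ≤ m ∧ m ^ 2 = n ∧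
      H = tensorWreathSubgroup m 2 e P ⊓ SL) ∨
  (∃ f : (Fin n → F) → (Fin n → F) → F, IsSymplecticForm f ∧ Even n ∧ H = similarityGroup f ⊓ SL) ∨
  (∃ (σ : F ≃+* F) (f : (Fin n → F) → (Fin n → F) → F), IsUnitaryForm σ f ∧ H = similarityGroup f ⊓ SL) ∨
  (Odd (Fintype.card F) ∧ ∃ Q : (Fin n → F) → F, IsNondegenerateQuadraticForm Q ∧
      H = quadSimilarityGroup Q ⊓ SL) ∨
  InLinearResidualClass H

theorem not_sl_le_symplectic (hn : 3 ≤ n) {f : (Fin n → F) → (Fin n → F) → F} (hf : IsSymplecticForm f) :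
    ¬ specialLinear (Fin n) F ≤ similarityGroup f :=
  not_sl_le_similarity hn hf.bilinear.add_right hf.nondegenerate

theorem not_sl_le_unitary (hn : 3 ≤ n) {σ : F ≃+* F} {f : (Fin n → F) → (Fin n → F) → F}
    (hf : IsUnitaryForm σ f) : ¬ specialLinear (Fin n) F ≤ similarityGroup f :=
  not_sl_le_similarity hn (fun v x y => by rw [hf.herm v (x + y), hf.add_left, map_add, ← hf.herm, ← hf.herm])
    hf.nondegenerate

theorem not_sl_le_quad (hn : 3 ≤ n) {Q : (Fin n → F) → F} (hQ : IsNondegenerateQuadraticForm Q) :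
    ¬ specialLinear (Fin n) F ≤ quadSimilarityGroup Q := fun h =>
  not_sl_le_similarity hn hQ.polar_bilinear.add_right hQ.nondegenerate (h.trans (quadSim_le Q))

theorem shape (hn : 3 ≤ n) (hn' : n < 27) {H : Subgroup (GL (Fin n) F)}
    (hH : IsMaximalIn (specialLinear (Fin n) F) H) : Shape H := by
  rcases aschbacher hn H with ⟨M, hM, hle⟩ | hres
  swap
  · iterate 10 right
    exact hres
  have hsub : ∀ W : Submodule F (Fin n → F), W ≠ ⊥ → W ≠ ⊤ → H ≤ subspaceStabilizer W → Shape H :=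
    fun W h0 h1 h => Or.inl ⟨W, h0, h1, eq_inf_of_le hH h (not_sl_le_subspace h0 h1)⟩
  rcases hM with ⟨W, h0, h1, rfl⟩ | ⟨W, U, h0, hWU, -, rfl⟩ | ⟨W, U, h0, hinf, hsup, hlt, rfl⟩ |
    ⟨t, m, D, hD, rfl⟩ | ⟨r, K, hr, hK, rfl⟩ | ⟨n₁, n₂, e, P, h1, h2, rfl⟩ | ⟨F₀, r, P, hr, hc, rfl⟩ |
    ⟨r, R, hR, rfl, hc⟩ | ⟨m, t, e, P, hm, ht, rfl⟩ | ⟨f, hf, hev, -, rfl⟩ | ⟨σ, f, hf, -, rfl⟩ |
    ⟨Q, hQ, hodd, -, rfl⟩
  · exact hsub W h0 h1 hle
  · exact hsub W h0 (ne_top_of_lt hWU) (hle.trans inf_le_left)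
  · refine hsub W h0 (fun e => ?_) (hle.trans inf_le_left)
    subst e
    have := Submodule.finrank_le U
    rw [finrank_top] at hlt
    omega
  · exact Or.inr (Or.inl ⟨t, m, D, mul_eq_of_decomposition hD, hD, eq_inf_of_le hH hle (not_sl_le_decomposition hD)⟩)
  · exact Or.inr (Or.inr (Or.inl ⟨r, K, hr, dvd_of_field (by omega) hK, hK,
      eq_inf_of_le hH hle (not_sl_le_field hn hr.two_le hK)⟩))
  · iterate 3 right
    exact Or.inl ⟨n₁, n₂, e, P, h1, h2, by simpa using (Fintype.card_congr e).symm,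
      eq_inf_of_le hH hle (not_sl_le_tensor hn h1 h2)⟩
  · iterate 4 right
    exact Or.inl ⟨F₀, r, P, hr, hc, eq_inf_of_le hH hle (not_sl_le_subfield hn hr hc P)⟩
  · iterate 5 right
    exact Or.inl ⟨r, R, hR, six_of_data hn hR hc, eq_inf_of_le hH hle (not_sl_le_symplecticType hn hR)⟩
  · have hcard : n = m ^ t := by simpa using Fintype.card_congr e
    obtain rfl : t = 2 := by
      refine le_antisymm ?_ ht
      by_contra h3
      have : 3 ^ 3 ≤ m ^ t := le_trans (Nat.pow_le_pow_left hm 3) (Nat.pow_le_pow_right (by omega) (by omega))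
      omega
    iterate 6 right
    exact Or.inl ⟨m, e, P, hm, hcard.symm, eq_inf_of_le hH hle (not_sl_le_wreath hm)⟩
  · iterate 7 right
    exact Or.inl ⟨f, hf, hev, eq_inf_of_le hH hle (not_sl_le_symplectic hn hf)⟩
  · iterate 8 right
    exact Or.inl ⟨σ, f, hf, eq_inf_of_le hH hle (not_sl_le_unitary hn hf)⟩
  · iterate 9 right
    exact Or.inl ⟨hodd, Q, hQ, eq_inf_of_le hH hle (not_sl_le_quad hn hQ)⟩

/-! ### Arithmetic of the sixth class -/

theorem six_exponent_lt {r p e : ℕ} (hr : r.Prime) (hp : p.Prime) (he : 0 < e) (h : r ∣ p ^ e - 1)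
    (hmin : ∀ d, 0 < d → d < e → ¬ r ∣ p ^ d - 1) : e < r ∧ (p % r) ^ e % r = 1 := by
  haveI : Fact r.Prime := ⟨hr⟩
  have h1 : p ^ e % r = 1 := by
    have : (p ^ e - 1) % r = 0 := Nat.mod_eq_zero_of_dvd h
    have hpos : 1 ≤ p ^ e := Nat.one_le_pow _ _ hp.pos
    have e2 : p ^ e = p ^ e - 1 + 1 := by omega
    rw [e2, Nat.add_mod, this, zero_add, Nat.mod_mod, Nat.mod_eq_of_lt hr.one_lt]
  refine ⟨?_, by rw [← Nat.pow_mod]; exact h1⟩
  by_contra hlt
  have hpr : (p : ZMod r) ≠ 0 := fun h0 => by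
    have : ((p ^ e : ℕ) : ZMod r) = 1 := by
      rw [← Nat.cast_one, ZMod.natCast_eq_natCast_iff', h1, Nat.mod_eq_of_lt hr.one_lt]
    rw [Nat.cast_pow, h0, zero_pow he.ne'] at this
    exact zero_ne_one this
  refine hmin (r - 1) (Nat.sub_pos_of_lt hr.one_lt) (by have := hr.one_lt; omega) ?_
  rw [← ZMod.natCast_eq_zero_iff, Nat.cast_sub (Nat.one_le_pow _ _ hp.pos), Nat.cast_pow, Nat.cast_one,
    ZMod.pow_card_sub_one_eq_one hpr, sub_self]

end CfsgLib.Aschbacher.Cases
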