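import Cfsg.Agent.Lib.Aschbacher.Cases.Small
import Cfsg.Agent.Lib.Aschbacher.Cases.Four

/-!
# The numerical side of the case lists
-/

set_option autoImplicit false

namespace CfsgLib.Aschbacher.Cases

open Cfsg Cfsg.Geo
open scoped Matrix MatrixGroups

universe u
variable {F : Type u} [Field F] [Fintype F] {n : ℕ}

/-- The pairs of the divisors. -/
theorem decomp_cases {t m : ℕ} (D : Fin t → Submodule F (Fin n → F)) (hD : IsMDecomposition m D) :
    t * m = n ∧ 2 ≤ t ∧ t ≤ n ∧ 1 ≤ m := by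
  have h := mul_eq_of_decomposition hD
  exact ⟨h, hD.two_le, h ▸ Nat.le_mul_of_pos_right t hD.pos, hD.pos⟩

/-- In a dimension that is no power of two the prime of the sixth class is odd. -/
theorem Six.odd_case {r : ℕ} (h : Six n r F) (hn : ∀ m, n ≠ 2 ^ m) :
    r.Prime ∧ r ≠ 2 ∧ ∃ p e m : ℕ, p.Prime ∧ CharP F p ∧ Fintype.card F = p ^ e ∧ Odd e ∧ 1 ≤ m ∧ n = r ^ m ∧
      e < r ∧ (p % r) ^ e % r = 1 ∧ (∀ d, 0 < d → d < e → ¬ r ∣ p ^ d - 1) := by
  obtain ⟨p, e, hp, hchar, hq, ⟨hr, hrP, he, hd, hmin, m, hm, hnm⟩ | ⟨-, -, -, -, m, hnm⟩⟩ := h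
  · obtain ⟨h1, h2⟩ := six_exponent_lt hrP hp he.pos hd hmin
    exact ⟨hrP, fun e2 => (Nat.not_even_iff_odd.2 hr) (e2 ▸ even_two), p, e, m, hp, hchar, hq, he, hm, hnm, h1, h2,
      hmin⟩
  · exact absurd hnm (hn m)

theorem not_pow_two (k : ℕ) (h1 : 2 ^ k < n) (h2 : n < 2 ^ (k + 1)) : ∀ m, n ≠ 2 ^ m := by
  rintro m rfl
  have := (Nat.pow_lt_pow_iff_right (a := 2) one_lt_two).1 h1
  have := (Nat.pow_lt_pow_iff_right (a := 2) one_lt_two).1 h2
  omega

/-- In a dimension that is a power of two the field has prime order congruent to one modulo four. -/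
theorem Six.two_case {r k : ℕ} (h : Six n r F) (hn : n = 2 ^ k) :
    r = 2 ∧ ∃ p, p.Prime ∧ Fintype.card F = p ∧ p % 4 = 1 := by
  obtain ⟨p, e, hp, -, hq, ⟨hr, hrP, -, -, -, m, hm, hnm⟩ | ⟨hr2, rfl, hp4, -, -⟩⟩ := h
  · exfalso
    have h1 : r ∣ 2 ^ k := by rw [← hn, hnm]; exact dvd_pow_self r (by omega)
    have h2 := (Nat.prime_dvd_prime_iff_eq hrP Nat.prime_two).1 (hrP.dvd_of_dvd_pow h1)
    exact absurd (h2 ▸ hr) (by decide)
  · exact ⟨hr2, p, hp, by rw [hq, pow_one], hp4⟩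

theorem eq_of_pow_eq {r m k l : ℕ} (hr : r.Prime) (hk : k.Prime) (hm : 1 ≤ m) (h : k ^ l = r ^ m) : r = k :=
  (Nat.prime_dvd_prime_iff_eq hr hk).1 (hr.dvd_of_dvd_pow (h ▸ dvd_pow_self r (by omega) : r ∣ k ^ l))

/-- In a dimension with two different prime divisors the sixth class is empty. -/
theorem Six.false_case {r : ℕ} (h : Six n r F) (hn : ∀ m, n ≠ 2 ^ m) (h2 : 2 ∣ n) : False := by
  obtain ⟨hr, hr2, -, -, m, -, -, -, -, -, hnm, -⟩ := h.odd_case hn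
  exact hr2 ((Nat.prime_dvd_prime_iff_eq Nat.prime_two hr).1 (Nat.prime_two.dvd_of_dvd_pow (hnm ▸ h2))).symm

theorem not_odd_two (h : 3 ≤ n) (hn : ¬ 2 ∣ n) : ∀ m, n ≠ 2 ^ m := by
  rintro m rfl
  rcases m with _ | m
  · simp at h
  · exact hn (dvd_pow_self 2 (by omega))

end CfsgLib.Aschbacher.Cases

namespace CfsgLib.Aschbacher.Cases

theorem card_ne_six {F : Type*} [Field F] [Fintype F] : Fintype.card F ≠ 6 := by
  intro h
  obtain ⟨p, k, hp, hk, e⟩ := (isPrimePow_nat_iff _).1 (FiniteField.isPrimePow_card F)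
  rw [h] at e
  rcases Nat.lt_or_ge k 2 with h2 | h2
  · obtain rfl : k = 1 := by omega
    rw [pow_one] at e
    subst e
    norm_num at hp
  · have h3 : p ^ 2 ∣ 6 := e ▸ pow_dvd_pow p h2
    have h4 := Nat.le_of_dvd (by norm_num) h3
    have := hp.two_le
    obtain rfl : p = 2 := by nlinarith
    norm_num at h3

end CfsgLib.Aschbacher.Cases
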