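import Cfsg.Agent.Lib.Aschbacher.Cases.Reduce

/-!
# Decompositions and tensor products over very small fields lie in other members
-/

set_option autoImplicit false

namespace CfsgLib.Aschbacher.Cases

open Cfsg Cfsg.Geo
open scoped Matrix MatrixGroups Kronecker

universe u
variable {F : Type u} [Field F] [Fintype F] {n : ℕ}

section coords

variable {t m : ℕ} {D : Fin t → Submodule F (Fin n → F)}

/-- Elements of a decomposition stabiliser in adapted coordinates. -/
theorem exists_coord_maps (e : (Fin n → F) ≃ₗ[F] (Fin t → Fin m → F))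
    (he : ∀ i v, v ∈ D i ↔ ∀ j, j ≠ i → e v j = 0) {g : GL (Fin n) F} (hg : g ∈ decompositionStabilizer D) :
    ∃ (σ : Equiv.Perm (Fin t)) (A : Fin t → Matrix (Fin m) (Fin m) F),
      (∀ v i, e ((g : Matrix (Fin n) (Fin n) F) *ᵥ v) (σ i) = A i *ᵥ e v i) ∧ ∀ i, (A i).det ≠ 0 := by
  classical
  obtain ⟨σ, hσ⟩ := hg
  let L : Fin t → ((Fin m → F) →ₗ[F] (Fin m → F)) := fun i =>
    (LinearMap.proj (σ i)) ∘ₗ e.toLinearMap ∘ₗ Matrix.toLin' (g : Matrix (Fin n) (Fin n) F) ∘ₗ
      e.symm.toLinearMap ∘ₗ LinearMap.single F (fun _ => Fin m → F) i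
  have hL : ∀ i x, L i x = e ((g : Matrix (Fin n) (Fin n) F) *ᵥ e.symm (Pi.single i x)) (σ i) := fun i x => rfl
  have hout : ∀ i x j, j ≠ σ i → e ((g : Matrix (Fin n) (Fin n) F) *ᵥ e.symm (Pi.single i x)) j = 0 := by
    intro i x
    refine (he (σ i) _).1 ?_
    rw [← hσ i]
    exact ⟨_, (he i _).2 fun j hj => by simp [Pi.single_eq_of_ne hj], Matrix.toLin'_apply _ _⟩
  refine ⟨σ, fun i => LinearMap.toMatrix' (L i), fun v i => ?_, fun i h0 => ?_⟩
  · have hsum : ∑ j, e.symm (Pi.single j (e v j)) = v := by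
      apply e.injective
      simp [Finset.univ_sum_single]
    rw [LinearMap.toMatrix'_mulVec, hL]
    conv_lhs => rw [← hsum, Matrix.mulVec_sum, map_sum, Finset.sum_apply]
    exact Finset.sum_eq_single i (fun j _ hj => hout j _ _ (σ.injective.ne hj).symm) (by simp)
  · obtain ⟨x, hx, hx0⟩ := Matrix.exists_mulVec_eq_zero_iff.2 h0
    rw [LinearMap.toMatrix'_mulVec, hL] at hx0
    have h1 : e ((g : Matrix (Fin n) (Fin n) F) *ᵥ e.symm (Pi.single i x)) = 0 := funext fun j => by
      rcases eq_or_ne j (σ i) with rfl | hj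
      · exact hx0
      · exact hout i x j hj
    have h2 : e.symm (Pi.single i x) = 0 :=
      mulVec_left_inj g (by rw [Matrix.mulVec_zero]; exact e.map_eq_zero_iff.1 h1)
    refine hx ?_
    simpa using congrFun (e.symm.map_eq_zero_iff.1 h2) i

theorem dot_nondeg (e : (Fin n → F) ≃ₗ[F] (Fin t → Fin 1 → F)) {v : Fin n → F} (hv : v ≠ 0) :
    ∃ i x, e v i 0 ≠ 0 ∧ e x = Pi.single i (fun _ => 1) := by
  by_contra hc
  refine hv (e.map_eq_zero_iff.1 (funext fun i => funext fun j => ?_))
  obtain rfl := Subsingleton.elim j 0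
  by_contra h
  exact hc ⟨i, e.symm _, h, e.apply_symm_apply _⟩

/-- A decomposition into lines over a field with at most four elements. -/
theorem lines_small (hn : 3 ≤ n) {H : Subgroup (GL (Fin n) F)} (hH : IsMaximalIn (specialLinear (Fin n) F) H)
    (hD : IsMDecomposition 1 D) (hHD : H = decompositionStabilizer D ⊓ specialLinear (Fin n) F)
    (hq : Fintype.card F ≤ 4) :
    (∃ W : Submodule F (Fin n → F), W ≠ ⊥ ∧ W ≠ ⊤ ∧ H = subspaceStabilizer W ⊓ specialLinear (Fin n) F) ∨
    (Odd (Fintype.card F) ∧ ∃ Q : (Fin n → F) → F, IsNondegenerateQuadraticForm Q ∧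
      H = quadSimilarityGroup Q ⊓ specialLinear (Fin n) F) ∨
    (∃ (σ : F ≃+* F) (f : (Fin n → F) → (Fin n → F) → F), IsUnitaryForm σ f ∧
      H = similarityGroup f ⊓ specialLinear (Fin n) F) := by
  classical
  obtain ⟨e, he⟩ := CfsgLib.Maximal.exists_coords D hD
  have ht : t = n := by simpa using mul_eq_of_decomposition hD
  have hmap : ∀ g ∈ H, ∃ (σ : Equiv.Perm (Fin t)) (l : Fin t → F), (∀ i, l i ≠ 0) ∧
      ∀ v i, e ((g : Matrix (Fin n) (Fin n) F) *ᵥ v) (σ i) 0 = l i * e v i 0 := by
    intro g hg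
    rw [hHD] at hg
    obtain ⟨σ, A, hA, hA0⟩ := exists_coord_maps e he hg.1
    refine ⟨σ, fun i => A i 0 0, fun i => by simpa [Matrix.det_fin_one] using hA0 i, fun v i => ?_⟩
    rw [hA]
    simp [Matrix.mulVec, dotProduct]
  have h2 : 2 ≤ Fintype.card F := Fintype.one_lt_card
  have hpow : ∀ x : F, x ≠ 0 → x ^ (Fintype.card F - 1) = 1 := fun x hx => FiniteField.pow_card_sub_one_eq_one x hx
  rcases (by omega : Fintype.card F = 2 ∨ Fintype.card F = 3 ∨ Fintype.card F = 4) with hc | hc | hc
  · left
    let w : Fin n → F := e.symm fun _ _ => 1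
    have hw : w ≠ 0 := fun h => by
      have := congrFun (congrFun (e.symm.map_eq_zero_iff.1 h) ⟨0, by omega⟩) 0
      exact one_ne_zero this
    have hfix : ∀ g ∈ H, (g : Matrix (Fin n) (Fin n) F) *ᵥ w = w := by
      intro g hg
      obtain ⟨σ, l, hl, hgv⟩ := hmap g hg
      apply e.injective
      funext j k
      obtain rfl := Subsingleton.elim k 0
      obtain ⟨i, rfl⟩ := σ.surjective j
      have h1 := hpow _ (hl i)
      rw [hc, pow_one] at h1
      rw [hgv, h1, one_mul]
      simp [w]
    have h0 : Submodule.span F {w} ≠ ⊥ := by simpa using hw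
    have h1 : Submodule.span F {w} ≠ ⊤ := fun h => by
      have := congrArg (fun W : Submodule F (Fin n → F) => Module.finrank F W) h
      simp [finrank_span_singleton hw] at this
      omega
    refine ⟨_, h0, h1, eq_inf_of_le hH (fun g hg => ?_) (not_sl_le_subspace h0 h1)⟩
    refine (mem_subspaceStabilizer_iff _ g).2 fun v hv => ?_
    obtain ⟨c, rfl⟩ := Submodule.mem_span_singleton.1 hv
    rw [Matrix.mulVec_smul, hfix g hg]
    exact hv
  · right; left
    haveI : CharP F 3 := charP_of_card_eq_prime hc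
    have h20 : (2 : F) ≠ 0 := fun h => by
      have h3 : ((3 : ℕ) : F) = 0 := CharP.cast_eq_zero F 3
      exact one_ne_zero (by push_cast at h3; linear_combination h3 - h : (1 : F) = 0)
    let Q : (Fin n → F) → F := fun v => ∑ i, e v i 0 ^ 2
    have hpol : ∀ u v, QuadraticMap.polar Q u v = 2 * ∑ i, e u i 0 * e v i 0 := fun u v => by
      simp only [QuadraticMap.polar, Q, map_add, Pi.add_apply, Finset.mul_sum, ← Finset.sum_sub_distrib]
      exact Finset.sum_congr rfl fun i _ => by ring
    have hQ : IsNondegenerateQuadraticForm Q :=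
      { smul := fun c v => by
          simp only [Q, map_smul, Pi.smul_apply, smul_eq_mul, mul_pow, Finset.mul_sum]
        polar_bilinear :=
          { add_left := fun x y v => by
              simp only [hpol, map_add, Pi.add_apply, add_mul, Finset.sum_add_distrib, mul_add]
            smul_left := fun c x v => by
              simp only [hpol, map_smul, Pi.smul_apply, smul_eq_mul, Finset.mul_sum]
              exact Finset.sum_congr rfl fun i _ => by ring
            add_right := fun v x y => by
              simp only [hpol, map_add, Pi.add_apply, mul_add, Finset.sum_add_distrib]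
            smul_right := fun c v x => by
              simp only [hpol, map_smul, Pi.smul_apply, smul_eq_mul, Finset.mul_sum]
              exact Finset.sum_congr rfl fun i _ => by ring }
        nondegenerate := fun v hv => by
          obtain ⟨i, x, hi, hx⟩ := dot_nondeg e hv
          constructor <;>
          · refine ⟨x, ?_⟩
            rw [hpol, hx, Finset.sum_eq_single i (fun j _ hj => by simp [Pi.single_eq_of_ne hj]) (by simp)]
            simpa using mul_ne_zero h20 hi }
    refine ⟨by rw [hc]; decide, Q, hQ, eq_inf_of_le hH (fun g hg => ?_) (not_sl_le_quad hn hQ)⟩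
    obtain ⟨σ, l, hl, hgv⟩ := hmap g hg
    refine ⟨1, fun v => ?_⟩
    rw [Units.val_one, one_mul]
    show ∑ i, _ = ∑ i, _
    rw [← Equiv.sum_comp σ]
    refine Finset.sum_congr rfl fun i _ => ?_
    have h1 := hpow _ (hl i)
    rw [hc] at h1
    rw [hgv, mul_pow, h1, one_mul]
  · right; right
    haveI : CharP F 2 := charP_of_card_eq_prime_pow (p := 2) (f := 2) (by rw [hc]; norm_num)
    let s : F ≃+* F := frobeniusEquiv F 2
    have hs : ∀ a : F, s a = a ^ 2 := fun a => frobeniusEquiv_apply F 2 a
    have hss : ∀ a : F, s (s a) = a := fun a => by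
      rw [hs, hs, ← pow_mul, show 2 * 2 = Fintype.card F by rw [hc], FiniteField.pow_card]
    have hne : s ≠ RingEquiv.refl F := fun h => by
      have hall : ∀ a : F, a ≠ 0 → a = 1 := fun a ha => by
        have h1 := hs a
        rw [h, RingEquiv.refl_apply] at h1
        exact mul_left_cancel₀ ha (by rw [mul_one, ← sq]; exact h1.symm)
      have : (Finset.univ : Finset F) ⊆ {0, 1} := fun a _ => by
        by_cases ha : a = 0
        · simp [ha]
        · simp [hall a ha]
      have := Finset.card_le_card this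
      rw [Finset.card_univ, hc] at this
      have h2 := Finset.card_le_two (a := (0 : F)) (b := 1)
      omega
    let f : (Fin n → F) → (Fin n → F) → F := fun u v => ∑ i, e u i 0 * s (e v i 0)
    have hf : IsUnitaryForm s f :=
      { ne_refl := hne
        involutive := hss
        add_left := fun x y v => by simp only [f, map_add, Pi.add_apply, add_mul, Finset.sum_add_distrib]
        smul_left := fun c x v => by
          simp only [f, map_smul, Pi.smul_apply, smul_eq_mul, Finset.mul_sum, mul_assoc]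
        herm := fun v w => by
          simp only [f, map_sum, map_mul, hss]
          exact Finset.sum_congr rfl fun i _ => mul_comm _ _
        nondegenerate := fun v hv => by
          obtain ⟨i, x, hi, hx⟩ := dot_nondeg e hv
          constructor <;>
          · refine ⟨x, ?_⟩
            simp only [f]
            rw [hx, Finset.sum_eq_single i (fun j _ hj => by simp [Pi.single_eq_of_ne hj]) (by simp)]
            simpa using hi }
    refine ⟨s, f, hf, eq_inf_of_le hH (fun g hg => ?_) (not_sl_le_unitary hn hf)⟩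
    obtain ⟨σ, l, hl, hgv⟩ := hmap g hg
    refine ⟨1, fun u v => ?_⟩
    rw [Units.val_one, one_mul]
    show ∑ i, _ = ∑ i, _
    rw [← Equiv.sum_comp σ]
    refine Finset.sum_congr rfl fun i _ => ?_
    have h1 := hpow _ (hl i)
    rw [hc] at h1
    have h3 : l i * s (l i) = 1 := by rw [hs, ← pow_succ']; exact h1
    rw [hgv, hgv, map_mul]
    linear_combination (e u i 0 * s (e v i 0)) * h3

/-- The symplectic form on a sum of planes. -/
theorem planes_symplectic (hn : 3 ≤ n) {H : Subgroup (GL (Fin n) F)} (hH : IsMaximalIn (specialLinear (Fin n) F) H)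
    {e : (Fin n → F) ≃ₗ[F] (Fin t → Fin 2 → F)}
    (hg : ∀ g ∈ H, ∃ (σ : Equiv.Perm (Fin t)) (A : Fin t → Matrix (Fin 2) (Fin 2) F) (c : Fˣ),
      (∀ v i, e ((g : Matrix (Fin n) (Fin n) F) *ᵥ v) (σ i) = A i *ᵥ e v i) ∧ ∀ i, (A i).det = c) :
    ∃ f : (Fin n → F) → (Fin n → F) → F, IsSymplecticForm f ∧
      H = similarityGroup f ⊓ specialLinear (Fin n) F := by
  classical
  let f : (Fin n → F) → (Fin n → F) → F := fun u v => ∑ i, (e u i 0 * e v i 1 - e u i 1 * e v i 0)
  have hf : IsSymplecticForm f :=
    { bilinear :=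
        { add_left := fun x y v => by
            simp only [f, map_add, Pi.add_apply, ← Finset.sum_add_distrib]
            exact Finset.sum_congr rfl fun i _ => by ring
          smul_left := fun c x v => by
            simp only [f, map_smul, Pi.smul_apply, smul_eq_mul, Finset.mul_sum]
            exact Finset.sum_congr rfl fun i _ => by ring
          add_right := fun v x y => by
            simp only [f, map_add, Pi.add_apply, ← Finset.sum_add_distrib]
            exact Finset.sum_congr rfl fun i _ => by ring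
          smul_right := fun c v x => by
            simp only [f, map_smul, Pi.smul_apply, smul_eq_mul, Finset.mul_sum]
            exact Finset.sum_congr rfl fun i _ => by ring }
      skew := fun v w => by
        simp only [f, ← Finset.sum_neg_distrib]
        exact Finset.sum_congr rfl fun i _ => by ring
      alternating := fun v => by simp [f, mul_comm]
      nondegenerate := fun v hv => by
        obtain ⟨i, hi⟩ : ∃ i, e v i 0 ≠ 0 ∨ e v i 1 ≠ 0 := by
          by_contra hc
          push Not at hc
          exact hv (e.map_eq_zero_iff.1 (funext fun i => funext fun k => by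
            fin_cases k
            · exact (hc i).1
            · exact (hc i).2))
        rcases hi with hi | hi
        · constructor <;>
          · refine ⟨e.symm (Pi.single i ![0, 1]), ?_⟩
            simp only [f, LinearEquiv.apply_symm_apply]
            rw [Finset.sum_eq_single i (fun j _ hj => by simp [Pi.single_eq_of_ne hj]) (by simp)]
            simpa using hi
        · constructor <;>
          · refine ⟨e.symm (Pi.single i ![1, 0]), ?_⟩
            simp only [f, LinearEquiv.apply_symm_apply]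
            rw [Finset.sum_eq_single i (fun j _ hj => by simp [Pi.single_eq_of_ne hj]) (by simp)]
            simpa using hi }
  refine ⟨f, hf, eq_inf_of_le hH (fun g hgH => ?_) (not_sl_le_symplectic hn hf)⟩
  obtain ⟨σ, A, c, hA, hdet⟩ := hg g hgH
  refine ⟨c, fun u v => ?_⟩
  simp only [f]
  rw [← Equiv.sum_comp σ, Finset.mul_sum]
  refine Finset.sum_congr rfl fun i _ => ?_
  rw [hA, hA]
  have h1 := hdet i
  rw [Matrix.det_fin_two] at h1
  simp only [Matrix.mulVec, dotProduct, Fin.sum_univ_two]
  linear_combination (e u i 0 * e v i 1 - e u i 1 * e v i 0) * h1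

/-- A decomposition into planes over the field with two elements. -/
theorem planes_two (hn : 3 ≤ n) {H : Subgroup (GL (Fin n) F)} (hH : IsMaximalIn (specialLinear (Fin n) F) H)
    (hD : IsMDecomposition 2 D) (hHD : H = decompositionStabilizer D ⊓ specialLinear (Fin n) F)
    (hq : Fintype.card F = 2) :
    ∃ f : (Fin n → F) → (Fin n → F) → F, IsSymplecticForm f ∧
      H = similarityGroup f ⊓ specialLinear (Fin n) F := by
  obtain ⟨e, he⟩ := CfsgLib.Maximal.exists_coords D hD
  refine planes_symplectic hn hH (e := e) fun g hg => ?_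
  rw [hHD] at hg
  obtain ⟨σ, A, hA, hA0⟩ := exists_coord_maps e he hg.1
  refine ⟨σ, A, 1, hA, fun i => ?_⟩
  have h1 := FiniteField.pow_card_sub_one_eq_one _ (hA0 i)
  rwa [hq, pow_one] at h1

end coords

/-- Two planes over the field with three elements. -/
theorem planes_three {H : Subgroup (GL (Fin 4) F)} (hH : IsMaximalIn (specialLinear (Fin 4) F) H)
    {D : Fin 2 → Submodule F (Fin 4 → F)}
    (hD : IsMDecomposition 2 D) (hHD : H = decompositionStabilizer D ⊓ specialLinear (Fin 4) F)
    (hq : Fintype.card F = 3) :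
    ∃ f : (Fin 4 → F) → (Fin 4 → F) → F, IsSymplecticForm f ∧
      H = similarityGroup f ⊓ specialLinear (Fin 4) F := by
  classical
  obtain ⟨e, he⟩ := CfsgLib.Maximal.exists_coords D hD
  refine planes_symplectic (by norm_num) hH (e := e) fun g hg => ?_
  rw [hHD] at hg
  obtain ⟨σ, A, hA, hA0⟩ := exists_coord_maps e he hg.1
  refine ⟨σ, A, Units.mk0 _ (hA0 0), hA, fun i => ?_⟩
  rw [Units.val_mk0]
  -- the determinant of the element is the product of the two small ones
  let w : (Fin 2 → Fin 2 → F) ≃ₗ[F] (Fin 4 → F) :=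
    { toFun := fun x => ![x 0 0, x 0 1, x 1 0, x 1 1]
      map_add' := fun x y => by ext i; fin_cases i <;> rfl
      map_smul' := fun c x => by ext i; fin_cases i <;> rfl
      invFun := fun y => ![![y 0, y 1], ![y 2, y 3]]
      left_inv := fun x => by ext i j; fin_cases i <;> fin_cases j <;> rfl
      right_inv := fun y => by ext i; fin_cases i <;> rfl }
  let E := e.trans w
  let M := E.toLinearMap ∘ₗ Matrix.toLin' (g : Matrix (Fin 4) (Fin 4) F) ∘ₗ E.symm.toLinearMap
  have hdetM : LinearMap.det M = 1 := by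
    rw [LinearMap.det_conj, LinearMap.det_toLin', (CfsgLib.Maximal.mem_specialLinear_iff g).1 hg.2]
  have hv : ∀ y k, M y = w (e ((g : Matrix (Fin 4) (Fin 4) F) *ᵥ e.symm (w.symm y))) ∧
      e ((g : Matrix (Fin 4) (Fin 4) F) *ᵥ e.symm (w.symm y)) (σ k) = A k *ᵥ w.symm y k := fun y k =>
    ⟨rfl, by rw [hA, LinearEquiv.apply_symm_apply]⟩
  have hprod : (A 0).det * (A 1).det = 1 := by
    have hσ : ∀ σ : Equiv.Perm (Fin 2), (σ 0 = 0 ∧ σ 1 = 1) ∨ (σ 0 = 1 ∧ σ 1 = 0) := by decide
    rcases hσ σ with ⟨h0, h1⟩ | ⟨h0, h1⟩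
    · let E4 : Matrix (Fin 4) (Fin 4) F :=
        !![A 0 0 0, A 0 0 1, 0, 0; A 0 1 0, A 0 1 1, 0, 0; 0, 0, A 1 0 0, A 1 0 1; 0, 0, A 1 1 0, A 1 1 1]
      have hM : M = Matrix.toLin' E4 := LinearMap.ext fun y => by
        rw [(hv y 0).1]
        have h2 := (hv y 0).2
        have h3 := (hv y 1).2
        rw [h0] at h2
        rw [h1] at h3
        simp [w] at h2 h3
        ext k
        fin_cases k <;>
          simp [w, E4, h2, h3, Matrix.mulVec, dotProduct, Fin.sum_univ_four, Fin.sum_univ_two]
      rw [hM, LinearMap.det_toLin'] at hdetM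
      simp [E4, Matrix.det_succ_row_zero, Fin.sum_univ_succ, Fin.succAbove] at hdetM
      rw [Matrix.det_fin_two, Matrix.det_fin_two]
      linear_combination hdetM
    · let E4 : Matrix (Fin 4) (Fin 4) F :=
        !![0, 0, A 1 0 0, A 1 0 1; 0, 0, A 1 1 0, A 1 1 1; A 0 0 0, A 0 0 1, 0, 0; A 0 1 0, A 0 1 1, 0, 0]
      have hM : M = Matrix.toLin' E4 := LinearMap.ext fun y => by
        rw [(hv y 0).1]
        have h2 := (hv y 0).2
        have h3 := (hv y 1).2
        rw [h0] at h2
        rw [h1] at h3
        simp [w] at h2 h3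
        ext k
        fin_cases k <;>
          simp [w, E4, h2, h3, Matrix.mulVec, dotProduct, Fin.sum_univ_four, Fin.sum_univ_two]
      rw [hM, LinearMap.det_toLin'] at hdetM
      simp [E4, Matrix.det_succ_row_zero, Fin.sum_univ_succ, Fin.succAbove] at hdetM
      rw [Matrix.det_fin_two, Matrix.det_fin_two]
      linear_combination hdetM
  have hsq := FiniteField.pow_card_sub_one_eq_one _ (hA0 0)
  rw [hq] at hsq
  fin_cases i
  · rfl
  · show (A 1).det = (A 0).det
    have hsq' : (A 0).det * (A 0).det = 1 := by rw [← sq]; exact hsq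
    linear_combination (A 0).det * hprod - (A 1).det * hsq'

/-- A tensor product with a factor of dimension two over the field with two elements normalises a field. -/
theorem tensor_two (hn : 3 ≤ n) {H : Subgroup (GL (Fin n) F)} (hH : IsMaximalIn (specialLinear (Fin n) F) H)
    {n₂ : ℕ} {e : Fin n ≃ Fin 2 × Fin n₂} {P : GL (Fin n) F}
    (hle : H ≤ tensorProductSubgroup 2 n₂ e P) (hq : Fintype.card F = 2) :
    ∃ K : Subalgebra F (Matrix (Fin n) (Fin n) F), IsFieldSubalgebra 2 K ∧
      H = subalgebraNormalizer K ⊓ specialLinear (Fin n) F := by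
  classical
  haveI : CharP F 2 := charP_of_card_eq_prime hq
  have h20 : (2 : F) = 0 := CharTwo.two_eq_zero
  have h01 : ∀ x : F, x = 0 ∨ x = 1 := fun x => by
    by_cases hx : x = 0
    · exact Or.inl hx
    · have := FiniteField.pow_card_sub_one_eq_one x hx
      rw [hq, pow_one] at this; exact Or.inr this
  let W : Matrix (Fin 2) (Fin 2) F := !![0, 1; 1, 1]
  have hW2 : W * W = W + 1 := by
    ext i j
    fin_cases i <;> fin_cases j <;> simp [W, Matrix.mul_apply, Fin.sum_univ_two] <;> linear_combination 0 * h20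
  have hsol : ∀ X : Matrix (Fin 2) (Fin 2) F, X * X = X + 1 → X = W ∨ X = W + 1 := by
    intro X hX
    have e00 := congrFun (congrFun hX 0) 0
    have e01 := congrFun (congrFun hX 0) 1
    have e10 := congrFun (congrFun hX 1) 0
    have e11 := congrFun (congrFun hX 1) 1
    simp [Matrix.mul_apply, Fin.sum_univ_two] at e00 e01 e10 e11
    rcases h01 (X 0 0) with a | a <;> rcases h01 (X 0 1) with b | b <;> rcases h01 (X 1 0) with c | c <;>
      rcases h01 (X 1 1) with d | d <;>
      first
      | (exfalso; simp [a, b, c, d, CharTwo.add_self_eq_zero] at e00 e01 e10 e11; done)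
      | (refine Or.inl (Matrix.ext fun i j => ?_)
         fin_cases i <;> fin_cases j <;> simp [W, a, b, c, d]; done)
      | (refine Or.inr (Matrix.ext fun i j => ?_)
         fin_cases i <;> fin_cases j <;> simp [W, a, b, c, d, CharTwo.add_self_eq_zero]; done)
  let K0 : Subalgebra F (Matrix (Fin 2) (Fin 2) F) :=
    { carrier := {x | ∃ a b : F, x = a • 1 + b • W}
      mul_mem' := by
        rintro _ _ ⟨a, b, rfl⟩ ⟨c, d, rfl⟩
        refine ⟨a * c + b * d, a * d + b * c + b * d, ?_⟩
        simp only [mul_add, add_mul, Matrix.smul_mul, Matrix.mul_smul, one_mul, mul_one, hW2, smul_add, smul_smul,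
          add_smul]
        module
      add_mem' := by
        rintro _ _ ⟨a, b, rfl⟩ ⟨c, d, rfl⟩
        exact ⟨a + c, b + d, by module⟩
      algebraMap_mem' := fun a => ⟨a, 0, by rw [Algebra.algebraMap_eq_smul_one]; simp⟩ }
  let φ := tensorHom e P
  haveI : Nonempty (Fin n) := ⟨⟨0, by omega⟩⟩
  have hinj : Function.Injective φ := RingHom.injective φ.toRingHom
  have hfin : Module.finrank F K0 = 2 := by
    have hli : LinearIndependent F ![(1 : Matrix (Fin 2) (Fin 2) F), W] :=
      LinearIndependent.pair_iff.2 fun a b hab => by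
        have h1 := congrFun (congrFun hab 0) 0
        have h2 := congrFun (congrFun hab 0) 1
        simp [W] at h1 h2
        exact ⟨h1, h2⟩
    have hspan : Subalgebra.toSubmodule K0 = Submodule.span F (Set.range ![(1 : Matrix (Fin 2) (Fin 2) F), W]) := by
      ext x
      rw [Submodule.mem_span_range_iff_exists_fun]
      constructor
      · rintro ⟨a, b, rfl⟩
        exact ⟨![a, b], by simp⟩
      · rintro ⟨c, rfl⟩
        exact ⟨c 0, c 1, by simp⟩
    rw [← Subalgebra.finrank_toSubmodule, hspan, finrank_span_eq_card hli, Fintype.card_fin]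
  let K := K0.map φ
  have hK : IsFieldSubalgebra 2 K :=
    { comm := by
        rintro _ ⟨_, ⟨a, b, rfl⟩, rfl⟩ _ ⟨_, ⟨c, d, rfl⟩, rfl⟩
        rw [← map_mul, ← map_mul]
        congr 1
        simp only [mul_add, add_mul, Matrix.smul_mul, Matrix.mul_smul, one_mul, mul_one, smul_smul]
        module
      inv := by
        rintro _ ⟨_, ⟨a, b, rfl⟩, rfl⟩ hx
        rcases h01 a with rfl | rfl <;> rcases h01 b with rfl | rfl
        · simp at hx
        · exact ⟨φ (W + 1), ⟨_, ⟨1, 1, by module⟩, rfl⟩, by
            show φ ((0 : F) • 1 + (1 : F) • W) * φ (W + 1) = 1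
            rw [zero_smul, zero_add, one_smul, ← map_mul, mul_add, hW2, mul_one, add_assoc, add_comm (1 : Matrix _ _ F),
              ← add_assoc, ← two_smul F W, h20, zero_smul, zero_add, map_one]⟩
        · exact ⟨1, one_mem _, by simp⟩
        · exact ⟨φ W, ⟨_, ⟨0, 1, by simp⟩, rfl⟩, by
            show φ ((1 : F) • 1 + (1 : F) • W) * φ W = 1
            rw [one_smul, one_smul, ← map_mul, add_mul, one_mul, hW2, ← add_assoc, ← two_smul F W, h20, zero_smul,
              zero_add, map_one]⟩
      finrank_eq := by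
        rw [← hfin]
        exact (Subalgebra.equivMapOfInjective K0 φ hinj).toLinearEquiv.finrank_eq.symm }
  refine ⟨K, hK, eq_inf_of_le hH (hle.trans (le_subalgebraNormalizer ?_)) (not_sl_le_field hn le_rfl hK)⟩
  rintro g hg _ ⟨_, ⟨a, b, rfl⟩, rfl⟩
  obtain ⟨A, hA⟩ := tensorHom_conj hg
  refine ⟨cj A (a • 1 + b • W), ?_, (hA _).symm⟩
  have hX : cj A W * cj A W = cj A W + 1 := by rw [← map_mul, hW2, map_add, map_one]
  rw [map_add, map_smul, map_smul, map_one]
  rcases hsol _ hX with h | h <;> rw [h]
  · exact ⟨a, b, rfl⟩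
  · exact ⟨a + b, b, by module⟩

/-- The normaliser of a cubic field over four elements lies in a subfield group. -/
theorem field_four {H : Subgroup (GL (Fin 3) F)} (hH : IsMaximalIn (specialLinear (Fin 3) F) H)
    {K : Subalgebra F (Matrix (Fin 3) (Fin 3) F)} (hK : IsFieldSubalgebra 3 K)
    (hHK : H = subalgebraNormalizer K ⊓ specialLinear (Fin 3) F) (hq : Fintype.card F = 4) :
    ∃ (F₀ : Subfield F) (r : ℕ) (P : GL (Fin 3) F), r.Prime ∧ Fintype.card F = Nat.card F₀ ^ r ∧
      H = subfieldSubgroup F₀ P ⊓ specialLinear (Fin 3) F := by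
  classical
  haveI : CharP F 2 := charP_of_card_eq_prime_pow (p := 2) (f := 2) (by rw [hq]; norm_num)
  haveI : Fact (Nat.Prime 2) := ⟨Nat.prime_two⟩
  let F₀ : Subfield F := (frobenius F 2).eqLocusField (RingHom.id F)
  have hF₀ : ∀ x : F, x ∈ F₀ ↔ x ^ 2 = x := fun x => Iff.rfl
  have hF₀card : Nat.card F₀ = 2 := natCard_fixed F (M := 2) one_lt_two (one_dvd _)
  have hsq : ∀ x : F, x ^ 4 = x := fun x => by rw [← hq]; exact FiniteField.pow_card x
  have hF : IsField K :=
    { exists_pair_ne := ⟨1, 0, fun h => one_ne_zero (congrArg Subtype.val h)⟩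
      mul_comm := fun x y => Subtype.ext (hK.comm x x.2 y y.2)
      mul_inv_cancel := fun {a} ha => by
        obtain ⟨y, hy, e⟩ := hK.inv a a.2 (fun e => ha (Subtype.ext e))
        exact ⟨⟨y, hy⟩, Subtype.ext e⟩ }
  letI : Field K := hF.toField
  haveI : Finite (Matrix (Fin 3) (Fin 3) F) := inferInstanceAs (Finite (Fin 3 → Fin 3 → F))
  haveI : CharP K 2 := charP_of_injective_algebraMap (algebraMap F K).injective 2
  have hcard : Nat.card K = 64 := by
    rw [Module.natCard_eq_pow_finrank (K := F), hK.finrank_eq, Nat.card_eq_fintype_card, hq]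
    norm_num
  have halg : ∀ x : F, (algebraMap F K x) ^ 4 = algebraMap F K x := fun x => by rw [← map_pow, hsq]
  -- a generator of the subfield with eight elements
  obtain ⟨α, hα8, hα2⟩ : ∃ α : K, α ^ 8 = α ∧ α ^ 2 ≠ α := by
    by_contra hc
    push Not at hc
    have h8 := natCard_fixed K (M := 8) (by norm_num) (by rw [hcard]; norm_num)
    let f : {x : K // x ^ 8 = x} → {x : K // x ^ 2 = x} := fun x => ⟨x, hc x x.2⟩
    have h2 := natCard_fixed K (M := 2) one_lt_two (one_dvd _)
    have := Nat.card_le_card_of_injective f fun a b h => Subtype.ext (congrArg Subtype.val h :)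
    omega
  have hα4 : α ^ 4 ≠ α := fun h => hα2 (by
    calc α ^ 2 = (α ^ 4) ^ 2 := by rw [h]
      _ = α ^ 8 := by rw [← pow_mul]
      _ = α := hα8)
  have hind : LinearIndependent F ![(1 : K), α, α ^ 2] := by
    rw [Fintype.linearIndependent_iff]
    intro g hg
    simp only [Fin.sum_univ_three, Matrix.cons_val_zero, Matrix.cons_val_one, Matrix.cons_val] at hg
    rw [Algebra.smul_def, Algebra.smul_def, Algebra.smul_def, mul_one] at hg
    have hc : g 2 = 0 := by
      by_contra hc
      have h2 : α ^ 2 = algebraMap F K (-(g 1) / g 2) * α + algebraMap F K (-(g 0) / g 2) := by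
        have e2 : algebraMap F K (g 2) ≠ 0 := fun e => hc ((algebraMap F K).injective (by rw [e, map_zero]))
        apply mul_left_cancel₀ e2
        rw [mul_add, ← mul_assoc, ← map_mul, ← map_mul, mul_div_cancel₀ _ hc, mul_div_cancel₀ _ hc, map_neg, map_neg]
        linear_combination hg
      set b := algebraMap F K (-(g 1) / g 2)
      set c := algebraMap F K (-(g 0) / g 2)
      have h4 : (α ^ 4) ^ 2 = b * α ^ 4 + c := by
        have h22 : (α ^ 2) ^ 4 = (b * α + c) ^ 4 := by rw [h2]
        rw [show (4 : ℕ) = 2 ^ 2 from rfl, add_pow_char_pow, mul_pow] at h22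
        norm_num at h22
        rw [halg, halg] at h22
        rw [← h22, ← pow_mul]; ring
      have hprod : (α ^ 4 - α) * (α ^ 4 + α - b) = 0 := by linear_combination h4 - h2
      rcases mul_eq_zero.1 hprod with h | h
      · exact hα4 (sub_eq_zero.1 h)
      · have hb : α ^ 4 = b - α := by linear_combination h
        have h16 : α ^ 16 = α := by
          rw [show 16 = 4 * 4 from rfl, pow_mul, hb, show (4 : ℕ) = 2 ^ 2 from rfl, sub_pow_char_pow]
          norm_num
          rw [halg, hb]
          ring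
        refine hα2 ?_
        rw [show 16 = 8 * 2 from rfl, pow_mul, hα8] at h16
        exact h16
    have hb : g 1 = 0 := by
      by_contra hb
      rw [hc, map_zero, zero_mul, add_zero] at hg
      refine hα4 ?_
      have e1 : algebraMap F K (g 1) ≠ 0 := fun e => hb ((algebraMap F K).injective (by rw [e, map_zero]))
      have hαe : α = algebraMap F K (-(g 0) / g 1) := by
        apply mul_left_cancel₀ e1
        rw [← map_mul, mul_div_cancel₀ _ hb, map_neg]
        linear_combination hg
      rw [hαe, halg]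
    rw [hc, hb, map_zero, zero_mul, zero_mul, add_zero, add_zero, map_eq_zero] at hg
    intro i; fin_cases i
    · exact hg
    · exact hb
    · exact hc
  let B : Module.Basis (Fin 3) F K :=
    basisOfLinearIndependentOfCardEqFinrank hind (by rw [Fintype.card_fin, hK.finrank_eq])
  have hB : ∀ i, B i = α ^ (i : ℕ) := fun i => by
    rw [show B i = ![(1 : K), α, α ^ 2] i by simp [B]]
    fin_cases i <;> simp
  have hB8 : ∀ i, B i ^ 8 = B i := fun i => by rw [hB, ← pow_mul, mul_comm, pow_mul, hα8]
  have hrat : ∀ x : K, x ^ 8 = x → ∀ i, B.repr x i ∈ F₀ := by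
    intro x hx i
    have h1 : x = ∑ j, (B.repr x j) ^ 2 • B j := by
      conv_lhs => rw [← hx, ← B.sum_repr x, show 8 = 2 ^ 3 from rfl, sum_pow_char_pow]
      refine Finset.sum_congr rfl fun j _ => ?_
      rw [Algebra.smul_def, Algebra.smul_def, mul_pow, ← map_pow]
      norm_num
      rw [hB8, show (8 : ℕ) = 4 * 2 from rfl, pow_mul, halg]
    rw [hF₀]
    have h2 := congrArg (fun y => B.repr y i) h1
    simp only [B.repr_sum_self] at h2
    exact h2.symm
  -- the vectors
  let w : Fin 3 → F := Pi.single 0 1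
  let ev : K →ₗ[F] (Fin 3 → F) :=
    { toFun := fun k => (k : Matrix (Fin 3) (Fin 3) F) *ᵥ w
      map_add' := fun a b => Matrix.add_mulVec _ _ _
      map_smul' := fun c a => Matrix.smul_mulVec c _ _ }
  have hevinj : Function.Injective ev := by
    rw [← LinearMap.ker_eq_bot]
    refine LinearMap.ker_eq_bot'.2 fun k hk => by_contra fun hk0 => ?_
    obtain ⟨y, hy, hky⟩ := hK.inv k k.2 (fun e => hk0 (Subtype.ext e))
    have : w = (y * (k : Matrix (Fin 3) (Fin 3) F)) *ᵥ w := by
      rw [← hK.comm k k.2 y hy, hky, Matrix.one_mulVec]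
    rw [← Matrix.mulVec_mulVec, show (k : Matrix (Fin 3) (Fin 3) F) *ᵥ w = 0 from hk, Matrix.mulVec_zero] at this
    simpa [w] using congrFun this 0
  have hevsurj : Function.Surjective ev :=
    (LinearMap.injective_iff_surjective_of_finrank_eq_finrank (by
      rw [hK.finrank_eq, Module.finrank_fin_fun])).1 hevinj
  let Pm : Matrix (Fin 3) (Fin 3) F := Matrix.of fun i j => ev (B j) i
  have hPm : IsUnit Pm := by
    rw [← Matrix.linearIndependent_cols_iff_isUnit]
    exact B.linearIndependent.map' ev (LinearMap.ker_eq_bot.2 hevinj)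
  let P : GL (Fin 3) F := hPm.unit
  have hPv : (P : Matrix (Fin 3) (Fin 3) F) = Pm := hPm.unit_spec
  refine ⟨F₀, 2, P, Nat.prime_two, by rw [hq, hF₀card]; norm_num, eq_inf_of_le hH (fun g hg => ?_)
    (not_sl_le_subfield (by norm_num) Nat.prime_two (by rw [hq, hF₀card]; norm_num) P)⟩
  rw [hHK] at hg
  have hτ : ∀ k : K, cj g (k : Matrix (Fin 3) (Fin 3) F) ∈ K := fun k => (hg.1 _).1 k.2
  let τ : K →+* K := ((cj g).toAlgHom.comp K.val).codRestrict K hτ
  obtain ⟨c, hc⟩ := hevsurj ((g : Matrix (Fin 3) (Fin 3) F) *ᵥ w)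
  let T : K → Matrix (Fin 3) (Fin 3) F := fun d => Matrix.of fun i j => B.repr (τ (B j) * d) i
  have hgP : ∀ a d : K, a * d = c → (g : Matrix (Fin 3) (Fin 3) F) * Pm = (a : Matrix (Fin 3) (Fin 3) F) * Pm * T d := by
    intro a d had
    refine Matrix.ext_of_mulVec_single fun j => ?_
    rw [← Matrix.mulVec_mulVec, ← Matrix.mulVec_mulVec, ← Matrix.mulVec_mulVec]
    have hcol : Pm *ᵥ Pi.single j 1 = ev (B j) := by
      funext i; simp [Pm]
    have hT : T d *ᵥ Pi.single j 1 = fun i => B.repr (τ (B j) * d) i := by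
      funext i; simp [T]
    have hPT : Pm *ᵥ (fun i => B.repr (τ (B j) * d) i) = ev (τ (B j) * d) := by
      conv_rhs => rw [← B.sum_repr (τ (B j) * d), map_sum]
      funext i
      simp [Pm, Matrix.mulVec, dotProduct, mul_comm]
    rw [hcol, hT, hPT]
    show (g : Matrix (Fin 3) (Fin 3) F) *ᵥ ((B j : Matrix (Fin 3) (Fin 3) F) *ᵥ w) =
      (a : Matrix (Fin 3) (Fin 3) F) *ᵥ (((τ (B j) * d : K) : Matrix (Fin 3) (Fin 3) F) *ᵥ w)
    rw [← cj_mulVec, ← hc, Matrix.mulVec_mulVec]
    show _ = _
    rw [show ev c = (c : Matrix (Fin 3) (Fin 3) F) *ᵥ w from rfl, Matrix.mulVec_mulVec]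
    congr 1
    show ((τ (B j) : K) : Matrix (Fin 3) (Fin 3) F) * (c : K) = ((a * (τ (B j) * d) : K) : Matrix (Fin 3) (Fin 3) F)
    rw [mul_left_comm, had]
    rfl
  have hτ8 : ∀ j, τ (B j) ^ 8 = τ (B j) := fun j => by rw [← map_pow, hB8]
  -- the determinant of `c` is one
  have hc0 : c ≠ 0 := fun e => by
    rw [e, map_zero] at hc
    have := mulVec_left_inj g (hc.symm.trans (Matrix.mulVec_zero _).symm)
    simpa [w] using congrFun this 0
  have hdetc : (c : Matrix (Fin 3) (Fin 3) F).det = 1 := by
    have h1 := congrArg Matrix.det (hgP c 1 (mul_one c))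
    rw [Matrix.det_mul, Matrix.det_mul, Matrix.det_mul, (CfsgLib.Maximal.mem_specialLinear_iff g).1 hg.2,
      one_mul] at h1
    have hTF : (T 1).det ^ 2 = (T 1).det := by
      rw [← frobenius_def, RingHom.map_det]
      congr 1
      ext i j
      show T 1 i j ^ 2 = T 1 i j
      refine (hF₀ _).1 (hrat _ ?_ i)
      rw [mul_one, hτ8]
    have hP0 : Pm.det ≠ 0 := ((Matrix.isUnit_iff_isUnit_det _).1 hPm).ne_zero
    have h3 : (c : Matrix (Fin 3) (Fin 3) F).det * (T 1).det = 1 :=
      mul_left_cancel₀ hP0 (by linear_combination -h1)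
    have hT0 : (T 1).det ≠ 0 := fun e => by rw [e, mul_zero] at h3; exact zero_ne_one h3
    have hT1 : (T 1).det = 1 := mul_left_cancel₀ hT0 (by rw [mul_one, ← sq]; exact hTF)
    rwa [hT1, mul_one] at h3
  have hc21 : c ^ 21 = 1 := by
    let f : Kˣ →* Fˣ := Units.map ((Matrix.detMonoidHom).comp (K.val : K →* Matrix (Fin 3) (Fin 3) F))
    obtain ⟨g0, hg0⟩ := IsCyclic.exists_monoid_generator (α := Kˣ)
    have hf0 : f g0 ≠ 1 := fun e => by
      have hall : ∀ x : K, x ≠ 0 → (x : Matrix (Fin 3) (Fin 3) F).det = 1 := fun x hx => by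
        obtain ⟨i, hi⟩ := (Submonoid.mem_powers_iff _ _).1 (hg0 (Units.mk0 x hx))
        have : f (Units.mk0 x hx) = 1 := by rw [← hi, map_pow, e, one_pow]
        exact congrArg Units.val this
      set M := (α : Matrix (Fin 3) (Fin 3) F)
      have heval : ∀ t : F, (M.charpoly - 1).eval t = 0 := fun t => by
        rw [Polynomial.eval_sub, Matrix.eval_charpoly, Polynomial.eval_one]
        have hne : algebraMap F K t - α ≠ 0 := fun e' => hα4 (by rw [← sub_eq_zero.1 e', halg])
        have := hall _ hne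
        rw [show ((algebraMap F K t - α : K) : Matrix (Fin 3) (Fin 3) F) = Matrix.scalar _ t - M by
          show (algebraMap F (Matrix (Fin 3) (Fin 3) F) t) - M = _
          rw [Matrix.algebraMap_eq_diagonal]; rfl] at this
        rw [this, sub_self]
      have hdeg : (M.charpoly - 1).natDegree < Fintype.card F := by
        refine lt_of_le_of_lt (Polynomial.natDegree_sub_le _ _) ?_
        rw [Matrix.charpoly_natDegree_eq_dim, Fintype.card_fin, Polynomial.natDegree_one, hq]
        norm_num
      have h0 := Polynomial.eq_zero_of_natDegree_lt_card_of_eval_eq_zero (M.charpoly - 1)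
        (f := (id : F → F)) Function.injective_id heval hdeg
      have h3 := congrArg Polynomial.natDegree (sub_eq_zero.1 h0)
      rw [Matrix.charpoly_natDegree_eq_dim, Fintype.card_fin, Polynomial.natDegree_one] at h3
      omega
    obtain ⟨i, hi⟩ := (Submonoid.mem_powers_iff _ _).1 (hg0 (Units.mk0 c hc0))
    have hfi : f g0 ^ i = 1 := by
      rw [← map_pow, hi]
      exact Units.ext hdetc
    have h3 : f g0 ^ 3 = 1 := by
      have := pow_card_eq_one' (x := f g0)
      rwa [Nat.card_units, Nat.card_eq_fintype_card, hq] at this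
    haveI : Fact (Nat.Prime 3) := ⟨Nat.prime_three⟩
    obtain ⟨j, rfl⟩ : 3 ∣ i := by rw [← orderOf_eq_prime h3 hf0]; exact orderOf_dvd_of_pow_eq_one hfi
    have h63 : g0 ^ 63 = 1 := by
      have := pow_card_eq_one' (x := g0)
      rwa [Nat.card_units, hcard] at this
    have := congrArg (fun u : Kˣ => ((u ^ 21 : Kˣ) : K)) hi
    simp only [Units.val_pow_eq_pow_val, Units.val_mk0] at this
    rw [← this, ← pow_mul, show 3 * j * 21 = 63 * j by ring, pow_mul, ← Units.val_pow_eq_pow_val, h63,
      Units.val_one, one_pow]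
  -- split `c`
  have ha3 : (c ^ 7) ^ 3 = 1 := by rw [← pow_mul]; exact hc21
  obtain ⟨a, ha⟩ : ∃ a : F, algebraMap F K a = c ^ 7 := by
    obtain ⟨ω, hω0, hω1⟩ : ∃ ω : F, ω ≠ 0 ∧ ω ≠ 1 := by
      by_contra hc'
      push Not at hc'
      have h1 := Finset.card_le_card (show (Finset.univ : Finset F) ⊆ {0, 1} from fun a _ => by
        by_cases ha : a = 0
        · simp [ha]
        · simp [hc' a ha])
      rw [Finset.card_univ, hq] at h1
      have h2 := Finset.card_le_two (a := (0 : F)) (b := 1)
      omega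
    have hω3 : ω ^ 3 = 1 := mul_left_cancel₀ hω0 (by rw [← pow_succ', mul_one]; exact hsq ω)
    have hω : ω ^ 2 + ω + 1 = 0 :=
      (mul_eq_zero.1 (show (ω - 1) * (ω ^ 2 + ω + 1) = 0 by linear_combination hω3)).resolve_left
        (sub_ne_zero.2 hω1)
    have h4 := congrArg (algebraMap F K) hω
    simp only [map_add, map_pow, map_one, map_zero] at h4
    set o := algebraMap F K ω
    set x := c ^ 7
    have h5 : (x - 1) * ((x - o) * (x - o ^ 2)) = 0 := by
      have h6 : algebraMap F K ω ^ 3 = 1 := by rw [← map_pow, hω3, map_one]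
      linear_combination ha3 + (-(x - 1) * x) * h4 + (x - 1) * h6
    rcases mul_eq_zero.1 h5 with h | h
    · exact ⟨1, by rw [map_one]; exact (sub_eq_zero.1 h).symm⟩
    rcases mul_eq_zero.1 h with h | h
    · exact ⟨ω, (sub_eq_zero.1 h).symm⟩
    · exact ⟨ω ^ 2, by rw [map_pow]; exact (sub_eq_zero.1 h).symm⟩
  have had : algebraMap F K a * c ^ 15 = c := by
    rw [ha, ← pow_add, show 7 + 15 = 21 + 1 from rfl, pow_succ, hc21, one_mul]
  have hd8 : (c ^ 15) ^ 8 = c ^ 15 := by
    rw [← pow_mul, show 15 * 8 = 21 * 5 + 15 from rfl, pow_add, pow_mul, hc21, one_pow, one_mul]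
  have ha0 : a ≠ 0 := fun e => by rw [e, map_zero, zero_mul] at had; exact hc0 had.symm
  refine (CfsgLib.Maximal.mem_subfieldSubgroup_iff P g).2 ⟨a⁻¹, inv_ne_zero ha0, fun i j => ?_⟩
  have hval : ((P⁻¹ * g * P : GL (Fin 3) F) : Matrix (Fin 3) (Fin 3) F) = a • T (c ^ 15) := by
    rw [Units.val_mul, Units.val_mul, mul_assoc, hPv, hgP _ _ had,
      show ((algebraMap F K a : K) : Matrix (Fin 3) (Fin 3) F) = a • 1 from Algebra.algebraMap_eq_smul_one a,
      Matrix.smul_mul, one_mul, Matrix.smul_mul, Matrix.mul_smul, ← mul_assoc, ← hPv, Units.inv_mul, one_mul]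
  rw [hval, smul_smul, inv_mul_cancel₀ ha0, one_smul]
  exact hrat _ (by rw [mul_pow, hτ8, hd8]) i

end CfsgLib.Aschbacher.Cases
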